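import Cfsg.Agent.H847.Bs.Defs2
import Cfsg.Agent.H885.NondegGeo

/-!
S5733, orthogonal groups: glueing isometries of `V = W ⟂ U`, and the corresponding counting lemma.
-/

set_option autoImplicit false

namespace Cfsg.Agent.H380.Bs

open QuadraticMap Cfsg.Agent.LieClassical.OrthCore Cfsg.Agent.LieClassical.OrthTrans
  Cfsg.Agent.LieClassical.OrthFinite Cfsg.Agent.H885.Nondeg Cfsg.Agent.H885.NondegGeo
open Cfsg.Agent.H885.Irr (NdOn)
open Cfsg.Agent.H847.Bs (Inv Frm glue frmQ nQ PlusT slV)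

section

variable {F V : Type*} [Field F] [AddCommGroup V] [Module F V] {W U : Submodule F V}

theorem glue_left (h : IsCompl W U) (x : W ≃ₗ[F] W) (y : U ≃ₗ[F] U) (w : W) :
    glue h x y (w : V) = (x w : V) := by
  simp [glue]

theorem glue_right (h : IsCompl W U) (x : W ≃ₗ[F] W) (y : U ≃ₗ[F] U) (u : U) :
    glue h x y (u : V) = (y u : V) := by
  simp [glue]

theorem exists_add (h : IsCompl W U) (v : V) : ∃ w : W, ∃ u : U, (w : V) + u = v := by
  have hv : v ∈ W ⊔ U := by rw [h.sup_eq_top]; exact Submodule.mem_top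
  obtain ⟨w, hw, u, hu, e⟩ := Submodule.mem_sup.1 hv
  exact ⟨⟨w, hw⟩, ⟨u, hu⟩, e⟩

theorem ext_of_compl (h : IsCompl W U) {f g : V ≃ₗ[F] V} (h1 : ∀ w : W, f w = g w)
    (h2 : ∀ u : U, f u = g u) : f = g := by
  ext v
  obtain ⟨w, u, rfl⟩ := exists_add h v
  rw [map_add, map_add, h1, h2]

theorem glue_mul (h : IsCompl W U) (x x' : W ≃ₗ[F] W) (y y' : U ≃ₗ[F] U) :
    glue h (x * x') (y * y') = glue h x y * glue h x' y' := by
  apply ext_of_compl h
  · intro w
    rw [glue_left, LinearEquiv.mul_apply, LinearEquiv.mul_apply, glue_left, glue_left]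
  · intro u
    rw [glue_right, LinearEquiv.mul_apply, LinearEquiv.mul_apply, glue_right, glue_right]

theorem glue_one (h : IsCompl W U) : glue h (1 : W ≃ₗ[F] W) (1 : U ≃ₗ[F] U) = 1 := by
  apply ext_of_compl h
  · intro w
    rw [glue_left]; rfl
  · intro u
    rw [glue_right]; rfl

theorem glue_inv (h : IsCompl W U) (x : W ≃ₗ[F] W) (y : U ≃ₗ[F] U) :
    (glue h x y)⁻¹ = glue h x⁻¹ y⁻¹ := by
  rw [inv_eq_iff_mul_eq_one, ← glue_mul, mul_inv_cancel, mul_inv_cancel, glue_one]

theorem glue_inj (h : IsCompl W U) {x x' : W ≃ₗ[F] W} {y y' : U ≃ₗ[F] U}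
    (e : glue h x y = glue h x' y') : x = x' ∧ y = y' := by
  constructor
  · ext w
    rw [← glue_left h x y w, e, glue_left]
  · ext u
    rw [← glue_right h x y u, e, glue_right]

/-- `glue · 1` as a homomorphism. -/
noncomputable def glueL (h : IsCompl W U) : (W ≃ₗ[F] W) →* (V ≃ₗ[F] V) where
  toFun x := glue h x 1
  map_one' := glue_one h
  map_mul' x y := by rw [← glue_mul, one_mul]

/-- `glue 1 ·` as a homomorphism. -/
noncomputable def glueR (h : IsCompl W U) : (U ≃ₗ[F] U) →* (V ≃ₗ[F] V) where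
  toFun y := glue h 1 y
  map_one' := glue_one h
  map_mul' x y := by rw [← glue_mul, one_mul]

theorem glueL_apply (h : IsCompl W U) (x : W ≃ₗ[F] W) : glueL h x = glue h x 1 := rfl

theorem glueR_apply (h : IsCompl W U) (y : U ≃ₗ[F] U) : glueR h y = glue h 1 y := rfl

theorem glue_eq_mul (h : IsCompl W U) (x : W ≃ₗ[F] W) (y : U ≃ₗ[F] U) :
    glue h x y = glueL h x * glueR h y := by
  rw [glueL_apply, glueR_apply, ← glue_mul, mul_one, one_mul]

theorem glueL_injective (h : IsCompl W U) : Function.Injective (glueL h (F := F)) :=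
  fun _ _ e => (glue_inj h e).1

/-- restriction of an automorphism to an invariant subspace -/
noncomputable def res [Module.Finite F V] (g : V ≃ₗ[F] V) (hg : Inv g W) : W ≃ₗ[F] W :=
  LinearEquiv.ofInjectiveEndo ((g : V →ₗ[F] V).restrict hg) (by
    intro a b e
    apply Subtype.ext
    apply g.injective
    exact congrArg Subtype.val e)

theorem res_apply [Module.Finite F V] (g : V ≃ₗ[F] V) (hg : Inv g W) (w : W) :
    (res g hg w : V) = g w := rfl

theorem eq_glue [Module.Finite F V] (h : IsCompl W U) (g : V ≃ₗ[F] V) (hW : Inv g W) (hU : Inv g U) :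
    g = glue h (res g hW) (res g hU) := by
  apply ext_of_compl h
  · intro w
    rw [glue_left, res_apply]
  · intro u
    rw [glue_right, res_apply]

theorem inv_glue_left (h : IsCompl W U) (x : W ≃ₗ[F] W) (y : U ≃ₗ[F] U) : Inv (glue h x y) W := by
  intro v hv
  rw [glue_left h x y ⟨v, hv⟩]
  exact (x ⟨v, hv⟩).2

theorem inv_glue_right (h : IsCompl W U) (x : W ≃ₗ[F] W) (y : U ≃ₗ[F] U) : Inv (glue h x y) U := by
  intro v hv
  rw [glue_right h x y ⟨v, hv⟩]
  exact (y ⟨v, hv⟩).2

/-- projection of an invariant subspace to `U` -/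
theorem inv_proj (h : IsCompl W U) {x : W ≃ₗ[F] W} {y : U ≃ₗ[F] U} {Y : Submodule F V}
    (hY : Inv (glue h x y) Y) : Inv y (Y.map (U.projectionOnto W h.symm)) := by
  rintro _ ⟨v, hv, rfl⟩
  refine ⟨glue h x y v, hY v hv, ?_⟩
  obtain ⟨w, u, rfl⟩ := exists_add h v
  rw [map_add, glue_left, glue_right, map_add, map_add]
  simp

theorem le_of_proj_eq_bot (h : IsCompl W U) {Y : Submodule F V}
    (hY : Y.map (U.projectionOnto W h.symm) = ⊥) : Y ≤ W := by
  intro v hv
  have h1 : U.projectionOnto W h.symm v = 0 := by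
    have : U.projectionOnto W h.symm v ∈ Y.map (U.projectionOnto W h.symm) := ⟨v, hv, rfl⟩
    rwa [hY, Submodule.mem_bot] at this
  simpa using h1

theorem finrank_proj_le [Module.Finite F V] (h : IsCompl W U) (Y : Submodule F V) :
    Module.finrank F (Y.map (U.projectionOnto W h.symm)) ≤ Module.finrank F Y :=
  Submodule.finrank_map_le _ _

end

/-! ### Quadratic forms -/

section

variable {F V : Type*} [Field F] [AddCommGroup V] [Module F V] {Q : QuadraticForm F V}
  {W U : Submodule F V}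

theorem iso_frmQ (Q : QuadraticForm F V) : (frmQ Q).Iso = O Q := by
  ext g
  constructor
  · rintro ⟨_, h2⟩
    exact h2
  · intro hg
    exact ⟨fun x y => polar_map hg x y, hg⟩

theorem on_frmQ (Q : QuadraticForm F V) (U : Submodule F V) :
    (frmQ Q).on U = frmQ (Q.comp U.subtype) := rfl

theorem Split.isCompl (h : Split Q W U) (hQ : Nondeg Q) : IsCompl W U :=
  ⟨disjoint_iff.2 (h.inf hQ), codisjoint_iff.2 h.sup⟩

theorem glue_mem_O (h : Split Q W U) (hc : IsCompl W U) {x : W ≃ₗ[F] W} {y : U ≃ₗ[F] U}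
    (hx : x ∈ O (Q.comp W.subtype)) (hy : y ∈ O (Q.comp U.subtype)) : glue hc x y ∈ O Q := by
  rw [mem_O]
  intro v
  obtain ⟨w, u, rfl⟩ := exists_add hc v
  have h1 : Q (x w : V) = Q (w : V) := hx w
  have h2 : Q (y u : V) = Q (u : V) := hy u
  rw [map_add, glue_left, glue_right, Q_add, Q_add, h1, h2, h.perp _ (x w).2 _ (y u).2,
    h.perp _ w.2 _ u.2]

theorem left_mem_O {hc : IsCompl W U} {x : W ≃ₗ[F] W} {y : U ≃ₗ[F] U} (h : glue hc x y ∈ O Q) :
    x ∈ O (Q.comp W.subtype) := by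
  intro w
  show Q (x w : V) = Q (w : V)
  rw [← glue_left hc x y, mem_O.1 h]

theorem right_mem_O {hc : IsCompl W U} {x : W ≃ₗ[F] W} {y : U ≃ₗ[F] U} (h : glue hc x y ∈ O Q) :
    y ∈ O (Q.comp U.subtype) := by
  intro u
  show Q (y u : V) = Q (u : V)
  rw [← glue_right hc x y, mem_O.1 h]

theorem inv_map_eq [Module.Finite F V] {g : V ≃ₗ[F] V} {Y : Submodule F V} (h : Inv g Y) :
    Y.map (g : V →ₗ[F] V) = Y := by
  apply Submodule.eq_of_le_of_finrank_eq
  · rintro _ ⟨v, hv, rfl⟩
    exact h v hv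
  · exact LinearEquiv.finrank_map_eq g Y

theorem Split.inv_right [Module.Finite F V] (h : Split Q W U) (hQ : Nondeg Q) {g : V ≃ₗ[F] V}
    (hg : g ∈ O Q) (hW : Inv g W) : Inv g U := by
  intro u hu
  rw [h.mem_right_iff hQ]
  intro w hw
  rw [← inv_map_eq hW] at hw
  obtain ⟨w', hw', rfl⟩ := hw
  show polar Q (g w') (g u) = 0
  rw [polar_map hg]
  exact h.perp _ hw' _ hu

/-- extension of elements of `E (Q|U)` -/
theorem glueR_mem_E (h : Split Q W U) (hc : IsCompl W U) {y : U ≃ₗ[F] U}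
    (hy : y ∈ E (Q.comp U.subtype)) : glueR hc y ∈ E Q := by
  have key : E (Q.comp U.subtype) ≤ (E Q).comap (glueR hc) := by
    rw [E, Subgroup.closure_le]
    rintro _ ⟨a, b, ha, hb, rfl⟩
    have ha' : Q (a : V) = 0 := ha
    have hb' : polar Q (a : V) (b : V) = 0 := hb
    have e : glueR hc (siegel (Q.comp U.subtype) a b ha hb) = siegel Q (a : V) (b : V) ha' hb' := by
      apply ext_of_compl hc
      · intro w
        rw [glueR_apply, glue_left, siegel_apply, h.perp' a.2 w.2, h.perp' b.2 w.2]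
        simp
      · intro u
        rw [glueR_apply, glue_right, siegel_apply, siegel_apply]
        rfl
    show glueR hc _ ∈ E Q
    rw [e]
    exact siegel_mem_E _ _
  exact key hy

theorem glueL_mem_E (h : Split Q W U) (hc : IsCompl W U) {x : W ≃ₗ[F] W}
    (hx : x ∈ E (Q.comp W.subtype)) : glueL hc x ∈ E Q := by
  have key : E (Q.comp W.subtype) ≤ (E Q).comap (glueL hc) := by
    rw [E, Subgroup.closure_le]
    rintro _ ⟨a, b, ha, hb, rfl⟩
    have ha' : Q (a : V) = 0 := ha
    have hb' : polar Q (a : V) (b : V) = 0 := hb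
    have e : glueL hc (siegel (Q.comp W.subtype) a b ha hb) = siegel Q (a : V) (b : V) ha' hb' := by
      apply ext_of_compl hc
      · intro w
        rw [glueL_apply, glue_left, siegel_apply, siegel_apply]
        rfl
      · intro u
        rw [glueL_apply, glue_right, siegel_apply, h.perp _ a.2 _ u.2, h.perp _ b.2 _ u.2]
        simp
    show glueL hc _ ∈ E Q
    rw [e]
    exact siegel_mem_E _ _
  exact key hx

theorem glueR_refl (h : Split Q W U) (hc : IsCompl W U) {a : U} (ha : (Q.comp U.subtype) a ≠ 0)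
    (ha' : Q (a : V) ≠ 0) : glueR hc (refl (Q.comp U.subtype) a ha) = refl Q (a : V) ha' := by
  apply ext_of_compl hc
  · intro w
    rw [glueR_apply, glue_left, refl_apply, h.perp' a.2 w.2]
    simp
  · intro u
    rw [glueR_apply, glue_right, refl_apply, refl_apply]
    rfl

theorem glueL_refl (h : Split Q W U) (hc : IsCompl W U) {a : W} (ha : (Q.comp W.subtype) a ≠ 0)
    (ha' : Q (a : V) ≠ 0) : glueL hc (refl (Q.comp W.subtype) a ha) = refl Q (a : V) ha' := by
  apply ext_of_compl hc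
  · intro w
    rw [glueL_apply, glue_left, refl_apply, refl_apply]
    rfl
  · intro u
    rw [glueL_apply, glue_right, refl_apply, h.perp _ a.2 _ u.2]
    simp

theorem glueL_comm_glueR (hc : IsCompl W U) (x : W ≃ₗ[F] W) (y : U ≃ₗ[F] U) :
    glueL hc x * glueR hc y = glueR hc y * glueL hc x := by
  rw [glueL_apply, glueR_apply, ← glue_mul, ← glue_mul, mul_one, one_mul, mul_one, one_mul]

/-- If `W` contains a hyperbolic pair, every isometry of `U` extends to an element of `E Q`. -/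
theorem exists_glue_mem_E (hG : Good Q) (h : Split Q W U) (hc : IsCompl W U) [Module.Finite F V]
    (hH : ∃ x ∈ W, ∃ y ∈ W, Hyp Q x y) {u : U ≃ₗ[F] U} (hu : u ∈ O (Q.comp U.subtype)) :
    ∃ w ∈ O (Q.comp W.subtype), glue hc w u ∈ E Q := by
  have hnd : Nondeg (Q.comp U.subtype) := nondeg_comp (h.ndOn_right hG.nondeg)
  rw [O_eq_closure hnd] at hu
  induction hu using Subgroup.closure_induction with
  | mem g hg =>
    rcases hg with ⟨a, ha, rfl⟩ | ⟨a, b, ha, hb, rfl⟩
    · have ha' : Q (a : V) ≠ 0 := ha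
      obtain ⟨x, hx, y, hy, hxy⟩ := hH
      have hQ : Q (x + Q (a : V) • y) = Q (a : V) := by
        rw [Q_add, hxy.left, QuadraticMap.map_smul, hxy.right, polar_smul_right, hxy.pair]
        simp
      let c : W := ⟨x + Q (a : V) • y, W.add_mem hx (W.smul_mem _ hy)⟩
      have hc' : Q (c : V) ≠ 0 := by
        show Q (x + Q (a : V) • y) ≠ 0
        rw [hQ]; exact ha'
      have hcW : (Q.comp W.subtype) c ≠ 0 := hc'
      refine ⟨refl (Q.comp W.subtype) c hcW, refl_mem_O hcW, ?_⟩
      rw [glue_eq_mul, glueL_refl h hc hcW hc', glueR_refl h hc ha ha']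
      exact hG.refl_mul_refl_mem ha' hc' hQ.symm
    · refine ⟨1, one_mem _, ?_⟩
      have := glueR_mem_E h hc (siegel_mem_E ha hb)
      rwa [glueR_apply] at this
  | one => exact ⟨1, one_mem _, by rw [glue_one]; exact one_mem _⟩
  | mul a b _ _ iha ihb =>
    obtain ⟨w, hw, h1⟩ := iha
    obtain ⟨w', hw', h2⟩ := ihb
    exact ⟨w * w', mul_mem hw hw', by rw [glue_mul]; exact mul_mem h1 h2⟩
  | inv a _ iha =>
    obtain ⟨w, hw, h1⟩ := iha
    exact ⟨w⁻¹, inv_mem hw, by rw [← glue_inv]; exact inv_mem h1⟩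

end

end Cfsg.Agent.H380.Bs
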