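import Cfsg.Agent.H380.Bs.Base

/-!
S5733, orthogonal groups: the counting lemma for glued isometries.
-/

set_option autoImplicit false

namespace Cfsg.Agent.H380.Bs

open QuadraticMap Cfsg.Agent.LieClassical.OrthCore Cfsg.Agent.LieClassical.OrthTrans
  Cfsg.Agent.LieClassical.OrthFinite Cfsg.Agent.H885.Nondeg Cfsg.Agent.H885.NondegGeo
open Cfsg.Agent.H885.Irr (NdOn)
open Cfsg.Agent.H847.Bs (Inv Frm glue frmQ nQ PlusT slV)

theorem card_union {Γ : Type*} [Group Γ] [Finite Γ] {G M : Subgroup Γ} {E : Set Γ}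
    (hTI : ∀ g ∈ G, ∀ x ∈ E, g * x * g⁻¹ ∈ E → g ∈ M) :
    Nat.card G * Nat.card E ≤ Nat.card {z : Γ // ∃ g ∈ G, ∃ x ∈ E, z = g * x * g⁻¹} * Nat.card M := by
  classical
  rw [← Nat.card_prod, ← Nat.card_prod]
  choose r hr x hx hz using fun z : {z : Γ // ∃ g ∈ G, ∃ x ∈ E, z = g * x * g⁻¹} => z.2
  let f : G × E → {z : Γ // ∃ g ∈ G, ∃ x ∈ E, z = g * x * g⁻¹} := fun p =>
    ⟨p.1 * p.2 * (p.1 : Γ)⁻¹, p.1, p.1.2, p.2, p.2.2, rfl⟩
  have hmem : ∀ p : G × E, (r (f p))⁻¹ * (p.1 : Γ) ∈ M := by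
    intro p
    apply hTI _ (mul_mem (inv_mem (hr _)) p.1.2) p.2 p.2.2
    have e : (r (f p))⁻¹ * (p.1 : Γ) * p.2 * ((r (f p))⁻¹ * (p.1 : Γ))⁻¹ = x (f p) := by
      have h1 := hz (f p)
      have h2 : ((f p : {z : Γ // ∃ g ∈ G, ∃ x ∈ E, z = g * x * g⁻¹}) : Γ) = p.1 * p.2 * (p.1 : Γ)⁻¹ := rfl
      rw [h2] at h1
      calc (r (f p))⁻¹ * (p.1 : Γ) * p.2 * ((r (f p))⁻¹ * (p.1 : Γ))⁻¹
          = (r (f p))⁻¹ * (p.1 * p.2 * (p.1 : Γ)⁻¹) * r (f p) := by group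
        _ = x (f p) := by rw [h1]; group
    rw [e]
    exact hx _
  apply Nat.card_le_card_of_injective (fun p : G × E => (f p, (⟨_, hmem p⟩ : M)))
  intro p p' e
  have e1 : f p = f p' := congrArg Prod.fst e
  have e2 : (r (f p))⁻¹ * (p.1 : Γ) = (r (f p'))⁻¹ * (p'.1 : Γ) :=
    congrArg (fun t : _ × M => (t.2 : Γ)) e
  rw [e1] at e2
  have e3 : (p.1 : Γ) = p'.1 := mul_left_cancel e2
  have e4 : (p.1 : Γ) * p.2 * (p.1 : Γ)⁻¹ = p'.1 * p'.2 * (p'.1 : Γ)⁻¹ := congrArg Subtype.val e1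
  rw [e3] at e4
  have e5 : (p.2 : Γ) = p'.2 := mul_left_cancel (mul_right_cancel e4)
  exact Prod.ext (Subtype.ext e3) (Subtype.ext e5)

section

variable {F V : Type*} [Field F] [AddCommGroup V] [Module F V] {Q : QuadraticForm F V}
  {W U : Submodule F V}

/-- the stabiliser of `W` in `O Q` -/
def stabO (Q : QuadraticForm F V) [Module.Finite F V] (W : Submodule F V) : Subgroup (V ≃ₗ[F] V) where
  carrier := {g | g ∈ O Q ∧ Inv g W}
  mul_mem' := by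
    rintro a b ⟨ha, ha'⟩ ⟨hb, hb'⟩
    exact ⟨mul_mem ha hb, fun v hv => ha' _ (hb' v hv)⟩
  one_mem' := ⟨one_mem _, fun v hv => hv⟩
  inv_mem' := by
    rintro a ⟨ha, ha'⟩
    refine ⟨inv_mem ha, fun v hv => ?_⟩
    rw [← inv_map_eq ha'] at hv
    obtain ⟨w, hw, rfl⟩ := hv
    have : a⁻¹ ((a : V →ₗ[F] V) w) = w := a.symm_apply_apply w
    rw [this]
    exact hw

instance [Finite F] [Module.Finite F V] : Finite (V ≃ₗ[F] V) := by
  have : Finite V := Module.finite_of_finite F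
  exact Finite.of_injective (fun g : V ≃ₗ[F] V => (g : V → V)) DFunLike.coe_injective

theorem card_stabO_le [Finite F] [Module.Finite F V] (hQ : Nondeg Q) (h : Split Q W U) :
    Nat.card (stabO Q W) ≤ Nat.card (O (Q.comp W.subtype)) * Nat.card (O (Q.comp U.subtype)) := by
  have hc := Split.isCompl h hQ
  rw [← Nat.card_prod]
  have key : ∀ g : stabO Q W, ∃ p : O (Q.comp W.subtype) × O (Q.comp U.subtype),
      (g : V ≃ₗ[F] V) = glue hc (p.1 : W ≃ₗ[F] W) (p.2 : U ≃ₗ[F] U) := by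
    rintro ⟨g, hg, hW⟩
    have hU := Split.inv_right h hQ hg hW
    have e := eq_glue hc g hW hU
    have hg' := hg
    rw [e] at hg'
    exact ⟨(⟨_, left_mem_O hg'⟩, ⟨_, right_mem_O hg'⟩), e⟩
  choose f hf using key
  apply Nat.card_le_card_of_injective f
  intro a b e
  apply Subtype.ext
  rw [hf a, hf b, e]

/-- the set of isometries conjugate to `glue p.1 p.2`, `p ∈ P` -/
def conjs (Q : QuadraticForm F V) (hc : IsCompl W U) (P : Set ((W ≃ₗ[F] W) × (U ≃ₗ[F] U))) :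
    Set (V ≃ₗ[F] V) :=
  {z | ∃ g ∈ O Q, ∃ p ∈ P, z = g * glue hc p.1 p.2 * g⁻¹}

theorem card_conjs [Finite F] [Module.Finite F V] (hQ : Nondeg Q) (h : Split Q W U)
    (hc : IsCompl W U) (P : Set ((W ≃ₗ[F] W) × (U ≃ₗ[F] U)))
    (hTI : ∀ g ∈ O Q, ∀ p ∈ P, ∀ p' ∈ P, g * glue hc p.1 p.2 * g⁻¹ = glue hc p'.1 p'.2 → Inv g W) :
    Nat.card (O Q) * Nat.card P ≤ Nat.card (conjs Q hc P) *
      (Nat.card (O (Q.comp W.subtype)) * Nat.card (O (Q.comp U.subtype))) := by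
  let E : Set (V ≃ₗ[F] V) := (fun p : (W ≃ₗ[F] W) × (U ≃ₗ[F] U) => glue hc p.1 p.2) '' P
  have hE : Nat.card E = Nat.card P := by
    apply Nat.card_image_of_injective
    intro p p' e
    obtain ⟨h1, h2⟩ := glue_inj hc e
    exact Prod.ext h1 h2
  have h1 : ∀ g ∈ O Q, ∀ x ∈ E, g * x * g⁻¹ ∈ E → g ∈ stabO Q W := by
    rintro g hg _ ⟨p, hp, rfl⟩ ⟨p', hp', e⟩
    exact ⟨hg, hTI g hg p hp p' hp' e.symm⟩
  have h2 := card_union h1
  rw [hE] at h2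
  have h3 : Nat.card {z : V ≃ₗ[F] V // ∃ g ∈ O Q, ∃ x ∈ E, z = g * x * g⁻¹} =
      Nat.card (conjs Q hc P) := by
    apply Nat.card_congr
    apply Equiv.subtypeEquivRight
    intro z
    constructor
    · rintro ⟨g, hg, _, ⟨p, hp, rfl⟩, e⟩
      exact ⟨g, hg, p, hp, e⟩
    · rintro ⟨g, hg, p, hp, e⟩
      exact ⟨g, hg, _, ⟨p, hp, rfl⟩, e⟩
  rw [h3] at h2
  exact h2.trans (Nat.mul_le_mul_left _ (card_stabO_le hQ h))

/-- the pairs `(w, u)` with `u ∈ Y` and `glue w u ∈ E Q` -/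
def prs (Q : QuadraticForm F V) (hc : IsCompl W U) (Y : Set (U ≃ₗ[F] U)) :
    Set ((W ≃ₗ[F] W) × (U ≃ₗ[F] U)) :=
  {p | p.1 ∈ O (Q.comp W.subtype) ∧ p.2 ∈ Y ∧ glue hc p.1 p.2 ∈ E Q}

/-- the kernel -/
noncomputable def kerW (Q : QuadraticForm F V) (hc : IsCompl W U) : Subgroup (W ≃ₗ[F] W) :=
  O (Q.comp W.subtype) ⊓ (E Q).comap (glueL hc)

theorem card_kerW [Finite F] [Module.Finite F V] (h : Split Q W U) (hc : IsCompl W U) :
    Nat.card (O (Q.comp W.subtype)) * Nat.card (E Q) ≤ Nat.card (kerW Q hc) * Nat.card (O Q) := by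
  let A : Subgroup (V ≃ₗ[F] V) := (O (Q.comp W.subtype)).map (glueL hc)
  have hA : A ≤ O Q := by
    rintro _ ⟨w, hw, rfl⟩
    exact glue_mem_O h hc hw (one_mem _)
  have hcA : Nat.card A = Nat.card (O (Q.comp W.subtype)) :=
    (Nat.card_congr ((O (Q.comp W.subtype)).equivMapOfInjective _ (glueL_injective hc)).toEquiv).symm
  have h1 : (E Q).relIndex A ≤ (E Q).relIndex (O Q) :=
    Subgroup.relIndex_le_of_le_right hA Subgroup.FiniteIndex.index_ne_zero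
  have h2 : Nat.card ((E Q).subgroupOf A) * (E Q).relIndex A = Nat.card A :=
    Subgroup.card_mul_index _
  have h3 : Nat.card ((E Q).subgroupOf (O Q)) * (E Q).relIndex (O Q) = Nat.card (O Q) :=
    Subgroup.card_mul_index _
  have h4 : Nat.card ((E Q).subgroupOf (O Q)) = Nat.card (E Q) :=
    Nat.card_congr (Subgroup.subgroupOfEquivOfLe E_le_O).toEquiv
  have h5 : Nat.card ((E Q).subgroupOf A) = Nat.card (kerW Q hc) := by
    symm
    apply Nat.card_congr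
    refine Equiv.ofBijective (fun w : kerW Q hc =>
      (⟨⟨glueL hc (w : W ≃ₗ[F] W), ⟨_, w.2.1, rfl⟩⟩, w.2.2⟩ : (E Q).subgroupOf A)) ⟨?_, ?_⟩
    · intro a b e
      apply Subtype.ext
      apply glueL_injective hc
      exact congrArg (fun t : (E Q).subgroupOf A => ((t : A) : V ≃ₗ[F] V)) e
    · rintro ⟨⟨_, ⟨w, hw, rfl⟩⟩, h⟩
      exact ⟨⟨w, hw, h⟩, rfl⟩
  rw [← hcA, ← h2, ← h3, h5, h4]
  calc Nat.card (kerW Q hc) * (E Q).relIndex A * Nat.card (E Q)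
      = Nat.card (kerW Q hc) * (Nat.card (E Q) * (E Q).relIndex A) := by ring
    _ ≤ Nat.card (kerW Q hc) * (Nat.card (E Q) * (E Q).relIndex (O Q)) :=
        Nat.mul_le_mul_left _ (Nat.mul_le_mul_left _ h1)

theorem card_prs [Finite F] [Module.Finite F V] (hc : IsCompl W U) (Y : Set (U ≃ₗ[F] U))
    (hex : ∀ u ∈ Y, ∃ w ∈ O (Q.comp W.subtype), glue hc w u ∈ E Q) :
    Nat.card Y * Nat.card (kerW Q hc) ≤ Nat.card (prs Q hc Y) := by
  rw [← Nat.card_prod]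
  have key : ∀ u : Y, ∃ w ∈ O (Q.comp W.subtype), glue hc w (u : U ≃ₗ[F] U) ∈ E Q := fun u =>
    hex u u.2
  choose f hf hfE using key
  apply Nat.card_le_card_of_injective (fun p : Y × kerW Q hc =>
    (⟨((p.2 : W ≃ₗ[F] W) * f p.1, (p.1 : U ≃ₗ[F] U)), mul_mem p.2.2.1 (hf _), p.1.2, by
      have : glue hc ((p.2 : W ≃ₗ[F] W) * f p.1) (p.1 : U ≃ₗ[F] U) =
          glueL hc (p.2 : W ≃ₗ[F] W) * glue hc (f p.1) (p.1 : U ≃ₗ[F] U) := by
        rw [glueL_apply, ← glue_mul, one_mul]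
      show glue hc ((p.2 : W ≃ₗ[F] W) * f p.1) (p.1 : U ≃ₗ[F] U) ∈ E Q
      rw [this]
      exact mul_mem p.2.2.2 (hfE _)⟩ : prs Q hc Y))
  rintro ⟨u, k⟩ ⟨u', k'⟩ e
  have e0 : ((k : W ≃ₗ[F] W) * f u, (u : U ≃ₗ[F] U)) = ((k' : W ≃ₗ[F] W) * f u', (u' : U ≃ₗ[F] U)) :=
    congrArg Subtype.val e
  have e1 : (u : U ≃ₗ[F] U) = u' := congrArg Prod.snd e0
  have e2 : (k : W ≃ₗ[F] W) * f u = k' * f u' := congrArg Prod.fst e0
  have e3 : u = u' := Subtype.ext e1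
  subst e3
  exact Prod.ext rfl (Subtype.ext (mul_right_cancel e2))

/-- **Counting lemma**: the elements of `E Q` conjugate to `glue w u`, `w ∈ O(W)`, `u ∈ Y`. -/
theorem card_le [Finite F] [Module.Finite F V] (hQ : Nondeg Q) (h : Split Q W U) (hc : IsCompl W U)
    (Y : Set (U ≃ₗ[F] U)) (hex : ∀ u ∈ Y, ∃ w ∈ O (Q.comp W.subtype), glue hc w u ∈ E Q)
    (hTI : ∀ g ∈ O Q, ∀ p ∈ prs Q hc Y, ∀ p' ∈ prs Q hc Y,
      g * glue hc p.1 p.2 * g⁻¹ = glue hc p'.1 p'.2 → Inv g W) :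
    Nat.card (E Q) * Nat.card Y ≤
      Nat.card (conjs Q hc (prs Q hc Y)) * Nat.card (O (Q.comp U.subtype)) := by
  have h1 := card_conjs hQ h hc _ hTI
  have h2 := card_kerW h hc
  have h3 := card_prs hc Y hex
  have hpos : 0 < Nat.card (O (Q.comp W.subtype)) := Nat.card_pos
  apply Nat.le_of_mul_le_mul_left _ hpos
  calc Nat.card (O (Q.comp W.subtype)) * (Nat.card (E Q) * Nat.card Y)
      = (Nat.card (O (Q.comp W.subtype)) * Nat.card (E Q)) * Nat.card Y := by ring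
    _ ≤ (Nat.card (kerW Q hc) * Nat.card (O Q)) * Nat.card Y := Nat.mul_le_mul_right _ h2
    _ = Nat.card (O Q) * (Nat.card Y * Nat.card (kerW Q hc)) := by ring
    _ ≤ Nat.card (O Q) * Nat.card (prs Q hc Y) := Nat.mul_le_mul_left _ h3
    _ ≤ _ := h1
    _ = _ := by ring

theorem conjs_prs_subset (hc : IsCompl W U) (Y : Set (U ≃ₗ[F] U)) :
    conjs Q hc (prs Q hc Y) ⊆ E Q := by
  rintro _ ⟨g, hg, p, hp, rfl⟩
  exact conj_mem_E hg hp.2.2

end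

end Cfsg.Agent.H380.Bs
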