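import Cfsg.Agent.H380.Bs.Sum

/-!
S5733, BS27: reducible subgroups of orthogonal groups.
-/

set_option autoImplicit false

namespace Cfsg.Agent.H380.Bs

open QuadraticMap Cfsg.Agent.LieClassical.OrthCore Cfsg.Agent.LieClassical.OrthTrans
  Cfsg.Agent.LieClassical.OrthFinite Cfsg.Agent.H885.Nondeg Cfsg.Agent.H885.NondegGeo
open Cfsg.Agent.H885.Irr (NdOn)
open Cfsg.Agent.H847.Bs (Inv Frm glue frmQ nQ PlusT slV ar)

section

variable {F V : Type} [Field F] [AddCommGroup V] [Module F V] {Q : QuadraticForm F V}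

theorem two_ne_zero_of_odd [Finite F] [Module.Finite F V] (hQ : Nondeg Q) {m : ℕ}
    (hd : Module.finrank F V = 2 * m + 1) : (2 : F) ≠ 0 := by
  intro h2
  obtain ⟨D, hD, hfD, -⟩ := exists_plus hQ m (by omega)
  have hs := split_perp hD
  have hf := hs.finrank hQ
  have h1 : Module.finrank F (perp Q D) = 1 := by omega
  obtain ⟨v, hv0, hv⟩ := finrank_eq_one_iff'.1 h1
  apply hv0
  apply Subtype.ext
  apply hs.ndOn_right hQ v v.2
  intro y hy
  obtain ⟨c, hc⟩ := hv ⟨y, hy⟩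
  have e : y = c • (v : V) := (congrArg Subtype.val hc).symm
  rw [e, polar_smul_right, polar_self', h2, zero_mul, smul_zero]

theorem ndOn_span (h2 : (2 : F) ≠ 0) {w : V} (hw : Q w ≠ 0) : NdOn Q (Submodule.span F {w}) := by
  intro x hx hall
  obtain ⟨c, rfl⟩ := Submodule.mem_span_singleton.1 hx
  have h1 := hall w (Submodule.mem_span_singleton_self w)
  rw [polar_smul_left, polar_self', smul_eq_mul] at h1
  have h3 : c = 0 := by
    rcases mul_eq_zero.1 h1 with h | h
    · exact h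
    · exact absurd h (mul_ne_zero h2 hw)
  rw [h3, zero_smul]

theorem small_odd_dim {c : ℝ} [Finite F] [Module.Finite F V] (hQ : Nondeg Q) (h2 : (2 : F) ≠ 0)
    {w : V} (hw : Q w ≠ 0) (h6 : 6 ≤ Module.finrank F V)
    (hS : c * (Nat.card (E (Q.comp (perp Q (Submodule.span F {w})).subtype)) : ℝ) ≤
      Nat.card (noSmall (Q.comp (perp Q (Submodule.span F {w})).subtype))) :
    c / 4 * (Nat.card (E Q) : ℝ) ≤ Nat.card {x : V ≃ₗ[F] V | x ∈ E Q ∧ ∀ Z : Submodule F V, Inv x Z →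
      Module.finrank F Z ≤ 7 → ∃ g ∈ O Q, Z ≤ (Submodule.span F {w}).map (g : V →ₗ[F] V)} := by
  have : Finite V := Module.finite_of_finite F
  have hw0 : w ≠ 0 := by
    rintro rfl
    exact hw (QuadraticMap.map_zero Q)
  set L := Submodule.span F {w} with hL
  have hLnd : NdOn Q L := ndOn_span h2 hw
  have hfL : Module.finrank F L = 1 := finrank_span_singleton hw0
  have hs : Split Q L (perp Q L) := split_perp hLnd
  set U := perp Q L with hUdef
  have hU := hs.ndOn_right hQ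
  have hc := Split.isCompl hs hQ
  have hfU := hs.finrank hQ
  have hGU : Good (Q.comp U.subtype) := good_of_finite (nondeg_comp hU) (by omega)
  let Y : Set (U ≃ₗ[F] U) := noSmall (Q.comp U.subtype)
  have hY7 : ∀ u ∈ Y, ∀ Z : Submodule F U, Inv u Z → Z ≠ ⊥ → 7 < Module.finrank F Z := by
    intro u hu Z hZ hne
    by_contra h
    exact hne (hu.2 Z hZ (by omega))
  have hTI : ∀ g ∈ O Q, ∀ p ∈ prs Q hc Y, ∀ p' ∈ prs Q hc Y,
      g * glue hc p.1 p.2 * g⁻¹ = glue hc p'.1 p'.2 → Inv g L := by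
    intro g hg p hp p' hp' e
    have h1 := inv_conj (g := g) (inv_glue_left hc p.1 p.2)
    rw [e] at h1
    have h2 := le_left_of_small hc (hY7 _ hp'.2.1) h1 (by rw [finrank_map]; omega)
    intro v hv
    exact h2 ⟨v, hv, rfl⟩
  have h1 := card_le hQ hs hc Y (fun u hu => ⟨1, one_mem _, by
    have := glueR_mem_E hs hc hu.1
    rwa [glueR_apply] at this⟩) hTI
  have h3 := card_O_le hGU h2
  have hsub : Nat.card (conjs Q hc (prs Q hc Y)) ≤
      Nat.card {x : V ≃ₗ[F] V | x ∈ E Q ∧ ∀ Z : Submodule F V, Inv x Z →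
        Module.finrank F Z ≤ 7 → ∃ g ∈ O Q, Z ≤ L.map (g : V →ₗ[F] V)} := by
    apply Nat.card_mono (Set.toFinite _)
    rintro _ ⟨g, hg, p, hp, rfl⟩
    refine ⟨conj_mem_E hg hp.2.2, fun Z hZ hfZ => ⟨g, hg, ?_⟩⟩
    apply le_map_of_map_inv_le
    apply le_left_of_small hc (hY7 _ hp.2.1) (inv_conj' hZ)
    rw [finrank_map]
    exact hfZ
  have hEU : (0 : ℝ) < Nat.card (E (Q.comp U.subtype)) := by exact_mod_cast Nat.card_pos
  have h4 : (Nat.card (E Q) : ℝ) * Nat.card Y ≤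
      Nat.card (conjs Q hc (prs Q hc Y)) * Nat.card (O (Q.comp U.subtype)) := by exact_mod_cast h1
  have h5 : (Nat.card (O (Q.comp U.subtype)) : ℝ) ≤ 4 * Nat.card (E (Q.comp U.subtype)) := by
    exact_mod_cast h3
  have h7 : c * (Nat.card (E (Q.comp U.subtype)) : ℝ) ≤ Nat.card Y := hS
  have hE : (0 : ℝ) ≤ Nat.card (E Q) := Nat.cast_nonneg _
  have hCn : (0 : ℝ) ≤ Nat.card (conjs Q hc (prs Q hc Y)) := Nat.cast_nonneg _
  have h8 : c / 4 * (Nat.card (E Q) : ℝ) * Nat.card (E (Q.comp U.subtype)) ≤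
      Nat.card (conjs Q hc (prs Q hc Y)) * Nat.card (E (Q.comp U.subtype)) := by
    have h9 := mul_le_mul_of_nonneg_left h7 hE
    have h10 := mul_le_mul_of_nonneg_left h5 hCn
    nlinarith
  have h9 := le_of_mul_le_mul_right h8 hEU
  exact h9.trans (by exact_mod_cast hsub)

/-- a nonsquare -/
theorem exists_nonsq [Finite F] (h2 : (2 : F) ≠ 0) : ∃ ν : F, ∀ c : F, c * c ≠ ν := by
  have hni : ¬ Function.Injective (fun t : F => t * t) := by
    intro h
    have h1 : (1 : F) = -1 := h (by show (1 : F) * 1 = -1 * -1; ring)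
    apply h2
    have : (2 : F) = 1 + 1 := by norm_num
    rw [this]
    nth_rewrite 1 [h1]
    ring
  have hns : ¬ Function.Surjective (fun t : F => t * t) := fun h =>
    hni (Finite.injective_iff_surjective.2 h)
  rw [Function.Surjective] at hns
  push Not at hns
  obtain ⟨c, hc⟩ := hns
  exact ⟨c, hc⟩

/-- a nonsingular vector not similar to the elements of `Y₀`, if `Y₀` is a line -/
theorem exists_w [Finite F] [Module.Finite F V] (h2 : (2 : F) ≠ 0) (hG : Good Q) {Y₀ : Submodule F V}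
    (hY : Y₀ ≠ ⊥) : ∃ w : V, Q w ≠ 0 ∧ ∀ g ∈ O Q, ∀ g' ∈ O Q,
      ¬ Y₀.map (g : V →ₗ[F] V) ≤ (Submodule.span F {w}).map (g' : V →ₗ[F] V) := by
  obtain ⟨ν, hν⟩ := exists_nonsq h2
  have hν0 : ν ≠ 0 := by
    intro h
    exact hν 0 (by rw [h, mul_zero])
  obtain ⟨x, y, hxy⟩ := hG.exists_hyp
  have hval : ∀ a : F, Q (x + a • y) = a := by
    intro a
    rw [Q_add, hxy.left, QuadraticMap.map_smul, hxy.right, polar_smul_right, hxy.pair]
    simp
  obtain ⟨z, hz, hz0⟩ := Submodule.exists_mem_ne_zero_of_ne_bot hY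
  -- the relation between `Q z` and `Q w`
  have key : ∀ (w : V) (g : V ≃ₗ[F] V), g ∈ O Q → ∀ g' : V ≃ₗ[F] V, g' ∈ O Q →
      Y₀.map (g : V →ₗ[F] V) ≤ (Submodule.span F {w}).map (g' : V →ₗ[F] V) →
      ∃ c : F, c ≠ 0 ∧ Q z = c * c * Q w := by
    intro w g hg g' hg' hle
    obtain ⟨t, ht, e⟩ := hle ⟨z, hz, rfl⟩
    obtain ⟨c, rfl⟩ := Submodule.mem_span_singleton.1 ht
    have e' : g' (c • w) = g z := e
    refine ⟨c, ?_, ?_⟩
    · rintro rfl
      rw [zero_smul, map_zero] at e'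
      exact hz0 (g.injective (by rw [← e', map_zero]))
    · have h1 := congrArg Q e'
      rw [mem_O.1 hg', mem_O.1 hg, QuadraticMap.map_smul, smul_eq_mul] at h1
      exact h1.symm
  by_cases hQz : Q z = 0
  · refine ⟨x + (1 : F) • y, by rw [hval]; exact one_ne_zero, fun g hg g' hg' hle => ?_⟩
    obtain ⟨c, hc, e⟩ := key _ g hg g' hg' hle
    rw [hval, hQz, mul_one] at e
    exact mul_ne_zero hc hc e.symm
  · refine ⟨x + (ν * Q z) • y, by rw [hval]; exact mul_ne_zero hν0 hQz, fun g hg g' hg' hle => ?_⟩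
    obtain ⟨c, hc, e⟩ := key _ g hg g' hg' hle
    rw [hval] at e
    apply hν c⁻¹
    have h1 : Q z * (1 - c * c * ν) = 0 := by linear_combination e
    have h3 : 1 - c * c * ν = 0 := (mul_eq_zero.1 h1).resolve_left hQz
    have h4 : c * c * ν = 1 := (sub_eq_zero.1 h3).symm
    have h5 : c * c⁻¹ = 1 := mul_inv_cancel₀ hc
    calc c⁻¹ * c⁻¹ = c⁻¹ * c⁻¹ * (c * c * ν) := by rw [h4, mul_one]
      _ = (c * c⁻¹) * (c * c⁻¹) * ν := by ring
      _ = ν := by rw [h5]; ring

theorem perp_map_inv [Module.Finite F V] (hQ : Nondeg Q) {Y₀ : Submodule F V} (hY : NdOn Q Y₀)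
    {g x : V ≃ₗ[F] V} (hg : g ∈ O Q) (hx : x ∈ O Q) (h : Inv x (Y₀.map (g : V →ₗ[F] V))) :
    Inv x ((perp Q Y₀).map (g : V →ₗ[F] V)) := by
  have hs := split_perp hY
  have hs' : Split Q (Y₀.map (g : V →ₗ[F] V)) ((perp Q Y₀).map (g : V →ₗ[F] V)) := by
    refine ⟨?_, ?_⟩
    · rintro _ ⟨a, ha, rfl⟩ _ ⟨b, hb, rfl⟩
      show polar Q (g a) (g b) = 0
      rw [polar_map hg]
      exact hs.perp a ha b hb
    · rw [← Submodule.map_sup, hs.sup, Submodule.map_top, LinearMap.range_eq_top]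
      exact g.surjective
  exact Split.inv_right hs' hQ hx h

end

/-- **BS27**: reducible subgroups of `E Q`. -/
theorem reducible {c : ℝ} {K₀ : ℕ} (hc : 0 < c) (hC : CountO c K₀) (hM : CountMinus) (hA : CountAdj) :
    ∃ c' : ℝ, 0 < c' ∧ ∃ n₀ : ℕ, ∀ (F V : Type) [Field F] [Finite F] [AddCommGroup V] [Module F V]
      [Module.Finite F V] (Q : QuadraticForm F V), Nondeg Q → n₀ ≤ Module.finrank F V →
      ∀ Y₀ : Submodule F V, Y₀ ≠ ⊥ → Y₀ ≠ ⊤ →
        ((frmQ Q).TI Y₀ ∨ (frmQ Q).NdOn Y₀ ∨ ∃ y : V, Q y ≠ 0 ∧ Y₀ = Submodule.span F {y}) →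
        c' * (Nat.card (E Q) : ℝ) ≤
          Nat.card {x : V ≃ₗ[F] V // x ∈ E Q ∧ ∀ g ∈ O Q, ¬ Inv x (Y₀.map (g : V →ₗ[F] V))} := by
  set K := max K₀ 16 with hK
  have hKK : K₀ ≤ K := le_max_left _ _
  have hK16 : 16 ≤ K := le_max_right _ _
  set c₁ : ℝ := c / (128 * (K + 1)) with hc₁
  have hc₁0 : 0 < c₁ := by positivity
  set c₂ : ℝ := c / (6 * (K₀ + 1)) with hc₂
  have hc₂0 : 0 < c₂ := by positivity
  refine ⟨min (c₁ / 4) (min c₂ (1 / 64)), by positivity, 8 * K + 128, ?_⟩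
  intro F V _ _ _ _ _ Q hQ hn Y₀ hY0 hY1 hY
  have hfin : Finite V := Module.finite_of_finite F
  have hE : (0 : ℝ) ≤ Nat.card (E Q) := Nat.cast_nonneg _
  have hG := good_of_finite hQ (by omega : 5 ≤ Module.finrank F V)
  -- small subspaces
  have hsmallset : ∀ (V' : Type) [AddCommGroup V'] [Module F V'] [Module.Finite F V']
      (Q' : QuadraticForm F V') (n : ℕ), Nondeg Q' → Module.finrank F V' = 2 * n → K + 8 < n →
      c₁ * (Nat.card (E Q') : ℝ) ≤ Nat.card (noSmall Q') := by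
    intro V' _ _ _ Q' n hQ' hd hKn
    by_cases h2 : (2 : F) = 0
    · have h3 := small_even_two hC hc.le h2 hQ' (n := n) (K := K) hKK (by omega) hd (by omega)
      refine le_trans (mul_le_mul_of_nonneg_right ?_ (Nat.cast_nonneg _)) h3
      rw [hc₁]
      apply div_le_div_of_nonneg_left hc.le (by positivity)
      have : (0 : ℝ) ≤ K := Nat.cast_nonneg _
      linarith
    · exact small_even_odd hC hA hc.le h2 hQ' hKK hK16 hd hKn
  have hsmall : ∀ Y : Submodule F V, Y ≠ ⊥ → Module.finrank F Y ≤ 7 →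
      c₁ / 4 * (Nat.card (E Q) : ℝ) ≤ Nat.card (good Q Y) := by
    intro Y hY0 hf7
    rcases Nat.even_or_odd' (Module.finrank F V) with ⟨n, hd | hd⟩
    · have h1 := hsmallset V Q n hQ hd (by omega)
      have h2 : Nat.card (noSmall Q) ≤ Nat.card (good Q Y) := by
        apply Nat.card_mono (Set.toFinite _)
        intro x hx
        refine ⟨hx.1, fun g hg hinv => hY0 ?_⟩
        have h3 := hx.2 _ hinv (by rw [finrank_map]; exact hf7)
        rw [Submodule.map_eq_bot_iff] at h3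
        · exact h3
      have h3 : (Nat.card (noSmall Q) : ℝ) ≤ Nat.card (good Q Y) := by exact_mod_cast h2
      have h4 : c₁ / 4 * (Nat.card (E Q) : ℝ) ≤ c₁ * (Nat.card (E Q) : ℝ) := by
        apply mul_le_mul_of_nonneg_right _ hE
        linarith
      linarith
    · have h2 := two_ne_zero_of_odd hQ hd
      obtain ⟨w, hw, hwY⟩ := exists_w h2 hG hY0
      have hs : Split Q (Submodule.span F {w}) (perp Q (Submodule.span F {w})) :=
        split_perp (ndOn_span h2 hw)
      have hw0 : w ≠ 0 := by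
        rintro rfl
        exact hw (QuadraticMap.map_zero Q)
      have hf := hs.finrank hQ
      rw [finrank_span_singleton hw0] at hf
      have h1 := small_odd_dim hQ h2 hw (by omega) (hsmallset _ _ n
        (nondeg_comp (hs.ndOn_right hQ)) (by omega) (by omega))
      refine h1.trans ?_
      have h3 : Nat.card {x : V ≃ₗ[F] V | x ∈ E Q ∧ ∀ Z : Submodule F V, Inv x Z →
          Module.finrank F Z ≤ 7 → ∃ g ∈ O Q, Z ≤ (Submodule.span F {w}).map (g : V →ₗ[F] V)} ≤
          Nat.card (good Q Y) := by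
        apply Nat.card_mono (Set.toFinite _)
        rintro x ⟨hx1, hx2⟩
        refine ⟨hx1, fun g hg hinv => ?_⟩
        obtain ⟨g', hg', hle⟩ := hx2 _ hinv (by rw [finrank_map]; exact hf7)
        exact hwY g hg g' hg' hle
      exact_mod_cast h3
  -- the general case
  have hgen : ∀ (Y : Submodule F V) (L : ℕ), Y ≠ ⊥ → Big Q Y L → 2 * Module.finrank F Y ≤ Module.finrank F V →
      min (c₁ / 4) (min c₂ (1 / 64)) * (Nat.card (E Q) : ℝ) ≤ Nat.card (good Q Y) := by
    intro Y L hYb hB hYN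
    rcases Nat.lt_or_ge L 8 with h8 | h8
    · refine le_trans (mul_le_mul_of_nonneg_right (min_le_left _ _) hE) (hsmall Y hYb ?_)
      have := hB.le
      omega
    rcases Nat.lt_or_ge (8 * L) (Module.finrank F V) with hL | hL
    · refine le_trans (mul_le_mul_of_nonneg_right ((min_le_right _ _).trans (min_le_left _ _)) hE) ?_
      exact med_sum hC hc.le hQ hB h8 hL (by omega)
    · refine le_trans (mul_le_mul_of_nonneg_right ((min_le_right _ _).trans (min_le_right _ _)) hE) ?_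
      exact large_sum hM hQ hB hYN hL (by omega)
  show _ ≤ (Nat.card (good Q Y₀) : ℝ)
  have hnd : ∀ Y : Submodule F V, Y ≠ ⊥ → Y ≠ ⊤ → NdOn Q Y →
      min (c₁ / 4) (min c₂ (1 / 64)) * (Nat.card (E Q) : ℝ) ≤ Nat.card (good Q Y) := by
    intro Y hYb hYt hYnd
    rcases Nat.lt_or_ge (Module.finrank F V) (2 * Module.finrank F Y) with h | h
    · have hs := split_perp hYnd
      have hf := hs.finrank hQ
      have hpb : perp Q Y ≠ ⊥ := by
        intro hb
        apply hYt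
        have := hs.sup
        rwa [hb, sup_bot_eq] at this
      have h1 := hgen (perp Q Y) _ hpb big_of_nd (by omega)
      have h2 : Nat.card (good Q (perp Q Y)) ≤ Nat.card (good Q Y) := by
        apply Nat.card_mono (Set.toFinite _)
        intro x hx
        exact ⟨hx.1, fun g hg hinv => hx.2 g hg (perp_map_inv hQ hYnd hg (E_le_O hx.1) hinv)⟩
      exact h1.trans (by exact_mod_cast h2)
    · exact hgen Y _ hYb big_of_nd h
  rcases hY with hTI | hN | ⟨y, hy, rfl⟩
  · refine hgen Y₀ _ hY0 (big_of_ti hTI.2) ?_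
    have h1 := Cfsg.Agent.S0760.two_mul_finrank_le Q
      ⟨fun x hx => hQ x hx, fun y hy => hQ y fun x => by rw [polar_comm]; exact hy x⟩ Y₀ hTI.2
    exact h1
  · exact hnd Y₀ hY0 hY1 hN
  · by_cases h2 : (2 : F) = 0
    · have hy0 : y ≠ 0 := by
        rintro rfl
        exact hy (QuadraticMap.map_zero Q)
      refine le_trans (mul_le_mul_of_nonneg_right (min_le_left _ _) hE) (hsmall _ hY0 ?_)
      rw [finrank_span_singleton hy0]
      omega
    · exact hnd _ hY0 hY1 (ndOn_span h2 hy)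

end Cfsg.Agent.H380.Bs
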