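import Cfsg.Agent.H380.Bs.Base

/-!
S5733, orthogonal groups: nondegenerate subspaces of plus and minus type of given even dimension.
-/

set_option autoImplicit false

namespace Cfsg.Agent.H380.Bs

open QuadraticMap Cfsg.Agent.LieClassical.OrthCore Cfsg.Agent.LieClassical.OrthTrans
  Cfsg.Agent.LieClassical.OrthFinite Cfsg.Agent.H885.Nondeg Cfsg.Agent.H885.NondegGeo
open Cfsg.Agent.H885.Irr (NdOn)
open Cfsg.Agent.H847.Bs (Inv Frm glue frmQ nQ PlusT slV)

variable {F V : Type*} [Field F] [AddCommGroup V] [Module F V] {Q : QuadraticForm F V}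

theorem hyp_in [Finite F] [Module.Finite F V] {X : Submodule F V} (hX : NdOn Q X)
    (h3 : 3 ≤ Module.finrank F X) : ∃ x ∈ X, ∃ y ∈ X, Hyp Q x y := by
  obtain ⟨w, hw, hw0, hQw⟩ := exists_sing_mem (Q := Q) X h3
  have hnd : Nondeg (Q.comp X.subtype) := nondeg_comp hX
  obtain ⟨y, hy⟩ := Cfsg.Agent.LieClassical.OrthTrans.exists_hyp (Q := Q.comp X.subtype) (x := ⟨w, hw⟩) hnd hQw
    (fun h => hw0 (congrArg Subtype.val h))
  exact ⟨w, hw, y, y.2, ⟨hQw, hy.right, hy.pair⟩⟩

theorem polar_of_zero {A : Submodule F V} (hA : ∀ a ∈ A, Q a = 0) {a b : V} (ha : a ∈ A)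
    (hb : b ∈ A) : polar Q a b = 0 := by
  rw [polar, hA _ (A.add_mem ha hb), hA _ ha, hA _ hb]
  ring

theorem finrank_pair {x y : V} (h : Hyp Q x y) : Module.finrank F (Submodule.span F {x, y}) = 2 := by
  have hli : LinearIndependent F ![x, y] := by
    rw [LinearIndependent.pair_iff]
    intro s t e
    have h1 : polar Q x (s • x + t • y) = t := by
      rw [polar_add_right, polar_smul_right, polar_smul_right, h.polar_left, h.pair]
      simp
    have h2 : polar Q y (s • x + t • y) = s := by
      rw [polar_add_right, polar_smul_right, polar_smul_right, h.polar_right, h.pair']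
      simp
    rw [e, polar_zero_right] at h1 h2
    exact ⟨h2.symm, h1.symm⟩
  have h1 := finrank_span_eq_card hli
  have e : Set.range ![x, y] = {x, y} := by
    ext v
    simp [eq_comm]
    tauto
  rw [e] at h1
  rw [h1]
  simp

theorem exists_chain [Finite F] [Module.Finite F V] (hQ : Nondeg Q) {P : Submodule F V}
    (hP : NdOn Q P) (w : ℕ)
    (hw : ∀ A : Submodule F V, A ≤ P → (∀ a ∈ A, Q a = 0) → Module.finrank F A ≤ w) :
    ∀ m : ℕ, Module.finrank F P + 2 * m + 1 ≤ Module.finrank F V →
      ∃ D : Submodule F V, P ≤ D ∧ NdOn Q D ∧ Module.finrank F D = Module.finrank F P + 2 * m ∧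
        (∀ A : Submodule F V, A ≤ D → (∀ a ∈ A, Q a = 0) → Module.finrank F A ≤ w + m) ∧
        ∃ A : Submodule F V, A ≤ D ∧ (∀ a ∈ A, Q a = 0) ∧ Module.finrank F A = m := by
  intro m
  induction m with
  | zero =>
    intro _
    refine ⟨P, le_rfl, hP, by simp, fun A hA h0 => by simpa using hw A hA h0, ⊥, bot_le, ?_, by simp⟩
    intro a ha
    rw [Submodule.mem_bot] at ha
    rw [ha, QuadraticMap.map_zero]
  | succ m ih =>
    intro hm
    obtain ⟨D, hPD, hD, hfD, hupD, A, hAD, hA, hfA⟩ := ih (by omega)
    have hs := split_perp hD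
    have hfs := hs.finrank hQ
    obtain ⟨x, hx, y, hy, hxy⟩ := hyp_in (hs.ndOn_right hQ) (by omega)
    have hDx : ∀ d ∈ D, polar Q d x = 0 := fun d hd => hx d hd
    have hDy : ∀ d ∈ D, polar Q d y = 0 := fun d hd => hy d hd
    set H : Submodule F V := Submodule.span F {x, y} with hH
    have hmemH : ∀ v ∈ H, ∃ a b : F, a • x + b • y = v := fun v hv => Submodule.mem_span_pair.1 hv
    have hxH : x ∈ H := Submodule.subset_span (by simp)
    have hyH : y ∈ H := Submodule.subset_span (by simp)
    have hpx : ∀ (d : V) (a b : F), d ∈ D → polar Q (d + (a • x + b • y)) x = b := by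
      intro d a b hd
      rw [polar_add_left, hDx d hd, polar_add_left, polar_smul_left, polar_smul_left,
        hxy.polar_left, hxy.pair']
      simp
    have hpy : ∀ (d : V) (a b : F), d ∈ D → polar Q (d + (a • x + b • y)) y = a := by
      intro d a b hd
      rw [polar_add_left, hDy d hd, polar_add_left, polar_smul_left, polar_smul_left,
        hxy.polar_right, hxy.pair]
      simp
    have hmem : ∀ v ∈ D ⊔ H, ∃ d ∈ D, ∃ a b : F, d + (a • x + b • y) = v := by
      intro v hv
      obtain ⟨d, hd, h, hh, e⟩ := Submodule.mem_sup.1 hv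
      obtain ⟨a, b, e'⟩ := hmemH h hh
      exact ⟨d, hd, a, b, by rw [e', e]⟩
    refine ⟨D ⊔ H, hPD.trans le_sup_left, ?_, ?_, ?_, ?_⟩
    · -- nondegenerate
      intro v hv hall
      obtain ⟨d, hd, a, b, rfl⟩ := hmem v hv
      have h1 := hall x (Submodule.mem_sup_right hxH)
      have h2 := hall y (Submodule.mem_sup_right hyH)
      rw [hpx d a b hd] at h1
      rw [hpy d a b hd] at h2
      subst h1 h2
      rw [zero_smul, zero_smul, add_zero, add_zero] at hall ⊢
      exact hD d hd fun z hz => hall z (Submodule.mem_sup_left hz)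
    · -- dimension
      have h1 := Submodule.finrank_sup_add_finrank_inf_eq D H
      have h2 : D ⊓ H = ⊥ := by
        rw [eq_bot_iff]
        rintro v ⟨hvD, hvH⟩
        obtain ⟨a, b, rfl⟩ := hmemH v hvH
        have h3 := hpx 0 a b D.zero_mem
        have h4 := hpy 0 a b D.zero_mem
        rw [zero_add, hDx _ hvD] at h3
        rw [zero_add, hDy _ hvD] at h4
        rw [← h3, ← h4]
        simp
      rw [h2, finrank_bot, finrank_pair hxy] at h1
      omega
    · -- upper bound for totally singular subspaces
      intro B hB hB0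
      let L : V →ₗ[F] V := LinearMap.id - ((polarBilin Q y).smulRight x + (polarBilin Q x).smulRight y)
      have hL : ∀ v, L v = v - (polar Q y v • x + polar Q x v • y) := fun v => rfl
      have hLD : ∀ v ∈ B, L v ∈ D := by
        intro v hv
        obtain ⟨d, hd, a, b, rfl⟩ := hmem v (hB hv)
        rw [hL, polar_comm Q y, polar_comm Q x, hpx d a b hd, hpy d a b hd, add_sub_cancel_right]
        exact hd
      let B1 : Submodule F V := B ⊓ LinearMap.ker (polarBilin Q x)
      have hB1 : ∀ v ∈ B1, v ∈ B ∧ polar Q x v = 0 := fun v hv => ⟨hv.1, LinearMap.mem_ker.1 hv.2⟩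
      let B2 : Submodule F V := B1.map L
      have hB2D : B2 ≤ D := by
        rintro _ ⟨v, hv, rfl⟩
        exact hLD v hv.1
      have hB2Q : ∀ a ∈ B2, Q a = 0 := by
        rintro _ ⟨v, hv, rfl⟩
        have h1 := hB1 v hv
        rw [hL, h1.2, zero_smul, add_zero, sub_eq_add_neg, ← neg_smul, Q_add, hB0 v h1.1,
          QuadraticMap.map_smul, hxy.left, polar_smul_right, polar_comm Q v x, h1.2]
        simp
      have hb := hupD B2 hB2D hB2Q
      have hfin1 : Module.finrank F B ≤ Module.finrank F B1 + 1 := by
        let f : B →ₗ[F] F := (polarBilin Q x).comp B.subtype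
        have h1 := LinearMap.finrank_range_add_finrank_ker f
        have h2 : Module.finrank F (LinearMap.range f) ≤ 1 := by
          refine (Submodule.finrank_le _).trans ?_
          simp
        have h3 : Module.finrank F (LinearMap.ker f) = Module.finrank F B1 := by
          have e : B1 = (LinearMap.ker f).map B.subtype := by
            ext v
            constructor
            · rintro ⟨h4, h5⟩
              exact ⟨⟨v, h4⟩, h5, rfl⟩
            · rintro ⟨u, h4, rfl⟩
              exact ⟨u.2, h4⟩
          rw [e, Submodule.finrank_map_subtype_eq]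
        omega
      have hfin2 : Module.finrank F B1 ≤ Module.finrank F B2 + Module.finrank F
          (LinearMap.ker (L.comp B1.subtype)) := by
        have h1 := LinearMap.finrank_range_add_finrank_ker (L.comp B1.subtype)
        have h2 : LinearMap.range (L.comp B1.subtype) = B2 := by
          rw [LinearMap.range_comp, Submodule.range_subtype]
        rw [h2] at h1
        omega
      have hker : ∀ u : B1, u ∈ LinearMap.ker (L.comp B1.subtype) → (u : V) = polar Q y u • x := by
        intro u hu
        have h1 : L (u : V) = 0 := hu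
        rw [hL, (hB1 u u.2).2, zero_smul, add_zero, sub_eq_zero] at h1
        exact h1
      by_cases hxB : x ∈ B
      · have h1 : B1 = B := by
          apply le_antisymm inf_le_left
          intro v hv
          exact ⟨hv, LinearMap.mem_ker.2 (polar_of_zero hB0 hxB hv)⟩
        have h2 : Module.finrank F (LinearMap.ker (L.comp B1.subtype)) ≤ 1 := by
          have hx1 : x ∈ B1 := by rw [h1]; exact hxB
          have h3 : LinearMap.ker (L.comp B1.subtype) ≤ Submodule.span F {(⟨x, hx1⟩ : B1)} := by
            intro u hu
            rw [Submodule.mem_span_singleton]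
            exact ⟨polar Q y u, Subtype.ext (hker u hu).symm⟩
          have h4 : (⟨x, hx1⟩ : B1) ≠ 0 := fun h => hxy.left_ne (congrArg Subtype.val h)
          exact (Submodule.finrank_mono h3).trans (finrank_span_singleton h4).le
        rw [h1] at hfin2 h2
        omega
      · have h2 : LinearMap.ker (L.comp B1.subtype) = ⊥ := by
          rw [eq_bot_iff]
          intro u hu
          have h3 := hker u hu
          by_cases hc : polar Q y (u : V) = 0
          · rw [hc, zero_smul] at h3
            exact Subtype.ext h3
          · exfalso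
            apply hxB
            have h4 : x = (polar Q y (u : V))⁻¹ • (u : V) := by
              rw [h3, polar_smul_right, hxy.pair', smul_smul]
              have h5 : polar Q y (u : V) ≠ 0 := hc
              rw [smul_eq_mul, mul_one, inv_mul_cancel₀ h5, one_smul]
            rw [h4]
            exact B.smul_mem _ u.2.1
        rw [h2, finrank_bot] at hfin2
        omega
    · -- lower bound
      have hxD : x ∉ D := by
        intro h
        have := hDy x h
        rw [hxy.pair] at this
        exact one_ne_zero this
      refine ⟨A ⊔ Submodule.span F {x}, sup_le (hAD.trans le_sup_left)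
        (le_trans (by rw [Submodule.span_singleton_le_iff_mem]; exact hxH) le_sup_right), ?_, ?_⟩
      · intro a ha
        obtain ⟨b, hb, c, hc, rfl⟩ := Submodule.mem_sup.1 ha
        obtain ⟨t, rfl⟩ := Submodule.mem_span_singleton.1 hc
        rw [Q_add, hA b hb, QuadraticMap.map_smul, hxy.left, polar_smul_right, hDx b (hAD hb)]
        simp
      · have h1 := Submodule.finrank_sup_add_finrank_inf_eq A (Submodule.span F {x})
        have h2 : A ⊓ Submodule.span F {x} = ⊥ := by
          rw [eq_bot_iff]
          rintro v ⟨hvA, hvx⟩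
          obtain ⟨t, rfl⟩ := Submodule.mem_span_singleton.1 hvx
          by_cases ht : t = 0
          · rw [ht, zero_smul]; exact Submodule.zero_mem _
          · exfalso
            apply hxD
            have := D.smul_mem t⁻¹ (hAD hvA)
            rwa [smul_smul, inv_mul_cancel₀ ht, one_smul] at this
        rw [h2, finrank_bot, finrank_span_singleton hxy.left_ne, hfA] at h1
        omega

theorem finrank_comap_of_le [Module.Finite F V] {A D : Submodule F V} (h : A ≤ D) :
    Module.finrank F (A.comap D.subtype) = Module.finrank F A := by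
  have h1 : (A.comap D.subtype).map D.subtype = A := by
    rw [Submodule.map_comap_subtype, inf_eq_right.2 h]
  rw [← Submodule.finrank_map_subtype_eq D (A.comap D.subtype), h1]

/-- A nondegenerate subspace of plus type of any even dimension `< dim V`. -/
theorem exists_plus [Finite F] [Module.Finite F V] (hQ : Nondeg Q) (m : ℕ)
    (hm : 2 * m + 1 ≤ Module.finrank F V) :
    ∃ D : Submodule F V, NdOn Q D ∧ Module.finrank F D = 2 * m ∧ PlusT (Q.comp D.subtype) := by
  obtain ⟨D, -, hD, hfD, -, A, hAD, hA, hfA⟩ := exists_chain hQ (P := (⊥ : Submodule F V))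
    (fun x hx _ => (Submodule.mem_bot F).1 hx) 0 (fun A hA _ => by
      rw [le_bot_iff.1 hA, finrank_bot]) m (by rw [finrank_bot]; omega)
  rw [finrank_bot, zero_add] at hfD
  refine ⟨D, hD, hfD, A.comap D.subtype, ⟨?_, ?_⟩, ?_⟩
  · intro x hx y hy
    exact polar_of_zero hA (show (x : V) ∈ A from hx) (show (y : V) ∈ A from hy)
  · intro x hx
    exact hA _ hx
  · rw [finrank_comap_of_le hAD, hfA, hfD]

/-- the coefficients of an irreducible quadratic polynomial -/
theorem exists_irr_quad (F : Type*) [Field F] [Finite F] :
    ∃ s c : F, (∀ t : F, t * t + s * t + c ≠ 0) ∧ 4 * c - s * s ≠ 0 := by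
  by_cases h2 : (2 : F) = 0
  · -- `t ↦ t² + t` is not injective
    have hni : ¬ Function.Injective (fun t : F => t * t + t) := by
      intro h
      have : (0 : F) = 1 := h (by
        show (0 : F) * 0 + 0 = 1 * 1 + 1
        rw [zero_mul, zero_add, one_mul, one_add_one_eq_two, h2])
      exact zero_ne_one this
    have hns : ¬ Function.Surjective (fun t : F => t * t + t) := fun h =>
      hni (Finite.injective_iff_surjective.2 h)
    rw [Function.Surjective] at hns
    push Not at hns
    obtain ⟨c, hc⟩ := hns
    refine ⟨1, c, fun t ht => ?_, ?_⟩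
    · apply hc t
      have h3 : c + c = 0 := by rw [← two_mul, h2, zero_mul]
      calc t * t + t = (t * t + 1 * t + c) - (c + c) + c := by ring
        _ = c := by rw [ht, h3]; ring
    · have h4 : (4 : F) = 0 := by
        have : (4 : F) = 2 * 2 := by norm_num
        rw [this, h2, zero_mul]
      rw [h4]
      simp
  · have hni : ¬ Function.Injective (fun t : F => t * t) := by
      intro h
      have h1 : (1 : F) = -1 := h (by show (1 : F) * 1 = -1 * -1; ring)
      apply h2
      have : (2 : F) = 1 + 1 := by norm_num
      rw [this]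
      nth_rewrite 1 [h1]
      ring
    have hns : ¬ Function.Surjective (fun t : F => t * t) := fun h =>
      hni (Finite.injective_iff_surjective.2 h)
    rw [Function.Surjective] at hns
    push Not at hns
    obtain ⟨c, hc⟩ := hns
    refine ⟨0, -c, fun t ht => ?_, ?_⟩
    · apply hc t
      calc t * t = (t * t + 0 * t + -c) + c := by ring
        _ = c := by rw [ht]; ring
    · intro h
      have h4 : (4 : F) ≠ 0 := by
        have : (4 : F) = 2 * 2 := by norm_num
        rw [this]
        exact mul_ne_zero h2 h2
      have h5 : c = 0 := by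
        have h6 : 4 * c = 0 := by linear_combination -h
        exact (mul_eq_zero.1 h6).resolve_left h4
      exact hc 0 (by show (0 : F) * 0 = c; rw [h5, zero_mul])

/-- an anisotropic plane -/
theorem exists_aniso [Finite F] [Module.Finite F V] (hQ : Nondeg Q) (h5 : 5 ≤ Module.finrank F V) :
    ∃ P : Submodule F V, NdOn Q P ∧ Module.finrank F P = 2 ∧ ∀ v ∈ P, Q v = 0 → v = 0 := by
  obtain ⟨s, c, hsc, hdisc⟩ := exists_irr_quad F
  have hG := good_of_finite hQ h5
  obtain ⟨x, y, hxy⟩ := hG.exists_hyp
  obtain ⟨z, w, hzw, hxz, hxw, hyz, hyw⟩ := hG.exists_hyp2 hxy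
  set u : V := x + y with hu
  set v : V := s • y + (z + c • w) with hv
  have hQu : Q u = 1 := by
    rw [hu, Q_add, hxy.left, hxy.right, hxy.pair]; ring
  have hQv : Q v = c := by
    rw [hv, Q_add, QuadraticMap.map_smul, hxy.right, Q_add, hzw.left, QuadraticMap.map_smul,
      hzw.right, polar_smul_right, hzw.pair, polar_smul_left, polar_add_right, hyz,
      polar_smul_right, hyw]
    simp
  have huv : polar Q u v = s := by
    rw [hu, hv, polar_add_left, polar_add_right, polar_add_right, polar_add_right, polar_add_right,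
      polar_smul_right, polar_smul_right, polar_smul_right, polar_smul_right, hxy.pair, hxz, hxw,
      hxy.polar_right, hyz, hyw]
    simp
  have hcomb : ∀ a b : F, Q (a • u + b • v) = a * a + s * (a * b) + c * (b * b) := by
    intro a b
    rw [Q_add, QuadraticMap.map_smul, QuadraticMap.map_smul, polar_smul_left, polar_smul_right, hQu,
      hQv, huv]
    simp only [smul_eq_mul]
    ring
  have han : ∀ a b : F, Q (a • u + b • v) = 0 → a = 0 ∧ b = 0 := by
    intro a b h
    rw [hcomb] at h
    by_cases hb : b = 0
    · subst hb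
      have : a * a = 0 := by linear_combination h
      exact ⟨mul_self_eq_zero.1 this, rfl⟩
    · exfalso
      apply hsc (a * b⁻¹)
      have h1 : b * b⁻¹ = 1 := mul_inv_cancel₀ hb
      have h2 : a * b⁻¹ * (a * b⁻¹) + s * (a * b⁻¹) + c =
          (a * a + s * (a * b) + c * (b * b)) * (b⁻¹ * b⁻¹) +
            (s * (a * b⁻¹) * (1 - b * b⁻¹) + c * (1 - (b * b⁻¹) * (b * b⁻¹))) := by ring
      rw [h2, h, h1]
      ring
  refine ⟨Submodule.span F {u, v}, ?_, ?_, ?_⟩
  · intro t ht hall
    obtain ⟨a, b, rfl⟩ := Submodule.mem_span_pair.1 ht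
    have h1 := hall u (Submodule.subset_span (by simp))
    have h2 := hall v (Submodule.subset_span (by simp))
    rw [polar_add_left, polar_smul_left, polar_smul_left, polar_self', hQu, polar_comm Q v u, huv] at h1
    rw [polar_add_left, polar_smul_left, polar_smul_left, polar_self', hQv, huv] at h2
    simp only [smul_eq_mul] at h1 h2
    have h3 : (4 * c - s * s) * b = 0 := by linear_combination 2 * h2 - s * h1
    have h4 : b = 0 := (mul_eq_zero.1 h3).resolve_left hdisc
    have h5' : (4 * c - s * s) * a = 0 := by linear_combination 2 * c * h1 - s * h2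
    have h6 : a = 0 := (mul_eq_zero.1 h5').resolve_left hdisc
    rw [h4, h6]
    simp
  · have hli : LinearIndependent F ![u, v] := by
      rw [LinearIndependent.pair_iff]
      intro a b e
      apply han
      rw [e, QuadraticMap.map_zero]
    have h1 := finrank_span_eq_card hli
    have e : Set.range ![u, v] = {u, v} := by
      ext v
      simp
      tauto
    rw [e] at h1
    rw [h1]
    simp
  · intro t ht h0
    obtain ⟨a, b, rfl⟩ := Submodule.mem_span_pair.1 ht
    obtain ⟨ha, hb⟩ := han a b h0
    rw [ha, hb]
    simp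

/-- A nondegenerate subspace of minus type of any even dimension `< dim V`. -/
theorem exists_minus [Finite F] [Module.Finite F V] (hQ : Nondeg Q) (m : ℕ) (hm1 : 1 ≤ m)
    (h5 : 5 ≤ Module.finrank F V) (hm : 2 * m + 1 ≤ Module.finrank F V) :
    ∃ D : Submodule F V, NdOn Q D ∧ Module.finrank F D = 2 * m ∧ ¬ PlusT (Q.comp D.subtype) := by
  obtain ⟨P, hP, hfP, han⟩ := exists_aniso hQ h5
  obtain ⟨D, -, hD, hfD, hup, -⟩ := exists_chain hQ hP 0 (fun A hA h0 => by
      have : A = ⊥ := by
        rw [eq_bot_iff]
        intro a ha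
        rw [Submodule.mem_bot]
        exact han a (hA ha) (h0 a ha)
      rw [this, finrank_bot]) (m - 1) (by rw [hfP]; omega)
  refine ⟨D, hD, by omega, ?_⟩
  rintro ⟨A, ⟨-, hA⟩, hfA⟩
  have h1 := hup (A.map D.subtype) (by
    rintro _ ⟨a, -, rfl⟩
    exact a.2) (by
    rintro _ ⟨a, ha, rfl⟩
    exact hA a ha)
  rw [Submodule.finrank_map_subtype_eq] at h1
  omega

end Cfsg.Agent.H380.Bs
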