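import Cfsg.Agent.H380.Bs.Count
import Cfsg.Agent.H380.Bs.Geo

/-!
S5733, orthogonal groups: the elements of `E Q` with one small nondegenerate subspace containing all small invariant
subspaces (`med_one`), and with one large irreducible nondegenerate subspace (`large_one`).
-/

set_option autoImplicit false

namespace Cfsg.Agent.H380.Bs

open QuadraticMap Cfsg.Agent.LieClassical.OrthCore Cfsg.Agent.LieClassical.OrthTrans
  Cfsg.Agent.LieClassical.OrthFinite Cfsg.Agent.H885.Nondeg Cfsg.Agent.H885.NondegGeo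
open Cfsg.Agent.H885.Irr (NdOn)
open Cfsg.Agent.H847.Bs (Inv Frm glue frmQ nQ PlusT slV ar)

/-- BS12, as a hypothesis -/
def CountO (c : ℝ) (K₀ : ℕ) : Prop :=
  ∀ (F V : Type) [Field F] [Finite F] [AddCommGroup V] [Module F V] [Module.Finite F V]
    (Q : QuadraticForm F V), Nondeg Q → ∀ n K : ℕ, K₀ ≤ K → Module.finrank F V = 2 * n → K < n →
      c / (K + 1) * (Nat.card (O Q) : ℝ) ≤
        Nat.card {x : V ≃ₗ[F] V // x ∈ (frmQ Q).SS K (2 * n) ∧ x ∈ nQ Q}

/-- BS08 (a), as a hypothesis -/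
def CountMinus : Prop :=
  ∀ (F V : Type) [Field F] [Finite F] [AddCommGroup V] [Module F V] [Module.Finite F V]
    (Q : QuadraticForm F V), Nondeg Q → ¬ PlusT Q → ∀ j : ℕ, 1 ≤ j → Module.finrank F V = 2 * j →
      ar j / (2 * j) * (Nat.card (O Q) : ℝ) ≤ Nat.card {x : V ≃ₗ[F] V // x ∈ (frmQ Q).Bm ∧ x ∈ nQ Q}

section

variable {F V : Type*} [Field F] [AddCommGroup V] [Module F V]

theorem inv_conj {x g : V ≃ₗ[F] V} {Y : Submodule F V} (h : Inv x Y) :
    Inv (g * x * g⁻¹) (Y.map (g : V →ₗ[F] V)) := by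
  rintro _ ⟨v, hv, rfl⟩
  refine ⟨x v, h v hv, ?_⟩
  show g (x v) = g (x (g⁻¹ (g v)))
  rw [show g⁻¹ (g v) = v from g.symm_apply_apply v]

theorem map_inv_map (g : V ≃ₗ[F] V) (Y : Submodule F V) :
    (Y.map (g⁻¹ : V ≃ₗ[F] V).toLinearMap).map (g : V →ₗ[F] V) = Y := by
  ext v
  constructor
  · rintro ⟨_, ⟨w, hw, rfl⟩, rfl⟩
    show g (g⁻¹ w) ∈ Y
    rw [show g (g⁻¹ w) = w from g.apply_symm_apply w]
    exact hw
  · intro hv
    exact ⟨g⁻¹ v, ⟨v, hv, rfl⟩, g.apply_symm_apply v⟩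

theorem inv_conj' {x g : V ≃ₗ[F] V} {Y : Submodule F V} (h : Inv (g * x * g⁻¹) Y) :
    Inv x (Y.map (g⁻¹ : V ≃ₗ[F] V).toLinearMap) := by
  have h1 := inv_conj (g := g⁻¹) h
  have h2 : g⁻¹ * (g * x * g⁻¹) * g⁻¹⁻¹ = x := by group
  rwa [h2] at h1

theorem le_map_of_map_inv_le {g : V ≃ₗ[F] V} {Y W : Submodule F V}
    (h : Y.map (g⁻¹ : V ≃ₗ[F] V).toLinearMap ≤ W) : Y ≤ W.map (g : V →ₗ[F] V) := by
  rw [← map_inv_map g Y]
  exact Submodule.map_mono h

theorem finrank_map (g : V ≃ₗ[F] V) (Y : Submodule F V) :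
    Module.finrank F (Y.map (g : V →ₗ[F] V)) = Module.finrank F Y :=
  LinearEquiv.finrank_map_eq g Y

end

section

variable {F V : Type*} [Field F] [AddCommGroup V] [Module F V] {Q : QuadraticForm F V}
  {W U : Submodule F V}

theorem ndOn_map {g : V ≃ₗ[F] V} (hg : g ∈ O Q) (hW : NdOn Q W) :
    NdOn Q (W.map (g : V →ₗ[F] V)) := by
  rintro _ ⟨w, hw, rfl⟩ hall
  have h0 : w = 0 := by
    apply hW w hw
    intro z hz
    have h1 := hall (g z) ⟨z, hz, rfl⟩
    have h2 : polar Q (g w) (g z) = 0 := h1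
    rwa [polar_map hg] at h2
  rw [h0, map_zero]

/-- the restriction of `SS K` to the left part: small invariant subspaces of `glue w u` lie in `W` -/
theorem le_left_of_small [Module.Finite F V] (hc : IsCompl W U) {w : W ≃ₗ[F] W} {u : U ≃ₗ[F] U}
    {K : ℕ} (hu : ∀ Y : Submodule F U, Inv u Y → Y ≠ ⊥ → K < Module.finrank F Y)
    {Y : Submodule F V} (hY : Inv (glue hc w u) Y) (hK : Module.finrank F Y ≤ K) : Y ≤ W := by
  apply le_of_proj_eq_bot hc
  by_contra hne
  have h1 := hu _ (inv_proj hc hY) hne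
  have h2 := finrank_proj_le hc Y
  omega

end

section

variable {F V : Type} [Field F] [AddCommGroup V] [Module F V] {Q : QuadraticForm F V}

theorem med_one {c : ℝ} {K₀ : ℕ} (hC : CountO c K₀) [Finite F] [Module.Finite F V] (hQ : Nondeg Q)
    {K t m : ℕ} (hK : K₀ ≤ K) (ht : 3 ≤ t) (htK : t ≤ K) (hd : Module.finrank F V = t + 2 * m)
    (hKm : K < m) :
    ∃ S : Set (V ≃ₗ[F] V), S ⊆ E Q ∧ c / (K + 1) * (Nat.card (E Q) : ℝ) ≤ Nat.card S ∧
      ∀ x ∈ S, ∃ W : Submodule F V, NdOn Q W ∧ Module.finrank F W = t ∧ Inv x W ∧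
        ∀ Y : Submodule F V, Inv x Y → Module.finrank F Y ≤ K → Y ≤ W := by
  have hG := good_of_finite hQ (by omega : 5 ≤ Module.finrank F V)
  obtain ⟨U, hU, hfU, -⟩ := exists_plus hQ m (by omega)
  have hs : Split Q (perp Q U) U := (split_perp hU).symm
  set W := perp Q U with hW
  have hc := Split.isCompl hs hQ
  have hfW := hs.finrank hQ
  have hWnd := hs.ndOn_left hQ
  have hH := hyp_in hWnd (by omega)
  let Y : Set (U ≃ₗ[F] U) := {u | u ∈ (frmQ (Q.comp U.subtype)).SS K (2 * m) ∧ u ∈ nQ (Q.comp U.subtype)}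
  have hYO : Y ⊆ O (Q.comp U.subtype) := fun u hu => by
    rw [← iso_frmQ]; exact hu.1.1
  have hTI : ∀ g ∈ O Q, ∀ p ∈ prs Q hc Y, ∀ p' ∈ prs Q hc Y,
      g * glue hc p.1 p.2 * g⁻¹ = glue hc p'.1 p'.2 → Inv g W := by
    intro g hg p hp p' hp' e
    have h1 := inv_conj (g := g) (inv_glue_left hc p.1 p.2)
    rw [e] at h1
    have h2 := le_left_of_small hc hp'.2.1.1.2.1 h1 (by rw [finrank_map]; omega)
    intro v hv
    exact h2 ⟨v, hv, rfl⟩
  have h1 := card_le hQ hs hc Y (fun u hu => exists_glue_mem_E hG hs hc hH (hYO hu)) hTI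
  have h2 := hC F U (Q.comp U.subtype) (nondeg_comp hU) m K hK hfU hKm
  refine ⟨conjs Q hc (prs Q hc Y), conjs_prs_subset hc Y, ?_, ?_⟩
  · have hpos : (0 : ℝ) < Nat.card (O (Q.comp U.subtype)) := by
      exact_mod_cast Nat.card_pos
    have h3 : ((Nat.card (E Q) * Nat.card Y : ℕ) : ℝ) ≤
        ((Nat.card (conjs Q hc (prs Q hc Y)) * Nat.card (O (Q.comp U.subtype)) : ℕ) : ℝ) := by
      exact_mod_cast h1
    push_cast at h3
    have h4 : c / (K + 1) * (Nat.card (O (Q.comp U.subtype)) : ℝ) ≤ (Nat.card Y : ℝ) := h2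
    have h5 : (0 : ℝ) ≤ Nat.card (E Q) := Nat.cast_nonneg _
    have h6 : c / (K + 1) * (Nat.card (E Q) : ℝ) * Nat.card (O (Q.comp U.subtype)) ≤
        Nat.card (conjs Q hc (prs Q hc Y)) * Nat.card (O (Q.comp U.subtype)) := by
      calc c / (K + 1) * (Nat.card (E Q) : ℝ) * Nat.card (O (Q.comp U.subtype))
          = (Nat.card (E Q) : ℝ) * (c / (K + 1) * (Nat.card (O (Q.comp U.subtype)) : ℝ)) := by ring
        _ ≤ (Nat.card (E Q) : ℝ) * Nat.card Y := mul_le_mul_of_nonneg_left h4 h5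
        _ ≤ _ := h3
    exact le_of_mul_le_mul_right h6 hpos
  · rintro _ ⟨g, hg, p, hp, rfl⟩
    refine ⟨W.map (g : V →ₗ[F] V), ndOn_map hg hWnd, by rw [finrank_map]; omega,
      inv_conj (inv_glue_left hc p.1 p.2), ?_⟩
    intro Z hZ hfZ
    apply le_map_of_map_inv_le
    apply le_left_of_small hc hp.2.1.1.2.1 (inv_conj' hZ)
    rw [finrank_map]
    exact hfZ

theorem large_one (hC : CountMinus) [Finite F] [Module.Finite F V] (hQ : Nondeg Q) {d : ℕ}
    (hd1 : 1 ≤ d) (hd2 : 2 * d + 3 ≤ Module.finrank F V) (hd3 : Module.finrank F V < 4 * d) :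
    ∃ S : Set (V ≃ₗ[F] V), S ⊆ E Q ∧ ar d / (2 * d) * (Nat.card (E Q) : ℝ) ≤ Nat.card S ∧
      ∀ x ∈ S, ∃ D W : Submodule F V, NdOn Q W ∧ Module.finrank F W + 2 * d = Module.finrank F V ∧
        Module.finrank F D = 2 * d ∧ Inv x D ∧ (∀ Y : Submodule F V, Y ≤ D → Inv x Y → Y = ⊥ ∨ Y = D) ∧
        ∀ Y : Submodule F V, Inv x Y → Module.finrank F Y < 2 * d → Y ≤ W := by
  have hG := good_of_finite hQ (by omega : 5 ≤ Module.finrank F V)
  obtain ⟨U, hU, hfU, hmin⟩ := exists_minus hQ d hd1 (by omega) (by omega)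
  have hs : Split Q (perp Q U) U := (split_perp hU).symm
  set W := perp Q U with hW
  have hc := Split.isCompl hs hQ
  have hfW := hs.finrank hQ
  have hWnd := hs.ndOn_left hQ
  have hH := hyp_in hWnd (by omega)
  let Y : Set (U ≃ₗ[F] U) := {u | u ∈ (frmQ (Q.comp U.subtype)).Bm ∧ u ∈ nQ (Q.comp U.subtype)}
  have hYO : Y ⊆ O (Q.comp U.subtype) := fun u hu => by
    rw [← iso_frmQ]; exact hu.1.1
  -- irreducibility of `U`
  have hirr : ∀ p ∈ prs Q hc Y, ∀ Z : Submodule F V, Z ≤ U → Inv (glue hc p.1 p.2) Z → Z = ⊥ ∨ Z = U := by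
    intro p hp Z hZU hZ
    have h1 : Inv p.2 (Z.comap U.subtype) := by
      intro v hv
      show ((p.2 v : U) : V) ∈ Z
      rw [← glue_right hc p.1 p.2]
      exact hZ _ hv
    have h2 : (Z.comap U.subtype).map U.subtype = Z := by
      rw [Submodule.map_comap_subtype, inf_eq_right.2 hZU]
    rcases hp.2.1.1.2.min _ le_top h1 with h | h
    · left
      rw [← h2, h, Submodule.map_bot]
    · right
      rw [← h2, h, Submodule.map_subtype_top]
  have hsmall : ∀ p ∈ prs Q hc Y, ∀ Z : Submodule F V, Inv (glue hc p.1 p.2) Z →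
      Module.finrank F Z < 2 * d → Z ≤ W := by
    intro p hp Z hZ hfZ
    apply le_of_proj_eq_bot hc
    rcases hp.2.1.1.2.min _ le_top (inv_proj hc hZ) with h | h
    · exact h
    · exfalso
      have h1 := finrank_proj_le hc Z
      rw [h, finrank_top] at h1
      omega
  have hTI : ∀ g ∈ O Q, ∀ p ∈ prs Q hc Y, ∀ p' ∈ prs Q hc Y,
      g * glue hc p.1 p.2 * g⁻¹ = glue hc p'.1 p'.2 → Inv g W := by
    intro g hg p hp p' hp' e
    have h1 := inv_conj (g := g) (inv_glue_right hc p.1 p.2)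
    rw [e] at h1
    have h2 : Inv (glue hc p'.1 p'.2) (U.map (g : V →ₗ[F] V) ⊓ U) := by
      intro v hv
      exact ⟨h1 v hv.1, inv_glue_right hc p'.1 p'.2 v hv.2⟩
    have hgU : Inv g U := by
      rcases hirr p' hp' _ inf_le_right h2 with h | h
      · exfalso
        have h3 := Submodule.finrank_sup_add_finrank_inf_eq (U.map (g : V →ₗ[F] V)) U
        have h4 := Submodule.finrank_le (U.map (g : V →ₗ[F] V) ⊔ U)
        rw [h, finrank_bot, finrank_map] at h3
        omega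
      · have h3 : U ≤ U.map (g : V →ₗ[F] V) := by
          intro v hv
          have h5 : v ∈ U.map (g : V →ₗ[F] V) ⊓ U := by rw [h]; exact hv
          exact h5.1
        have h4 : U = U.map (g : V →ₗ[F] V) :=
          Submodule.eq_of_le_of_finrank_eq h3 (finrank_map g U).symm
        intro v hv
        have : g v ∈ U.map (g : V →ₗ[F] V) := ⟨v, hv, rfl⟩
        rwa [← h4] at this
    exact Split.inv_right hs.symm hQ hg hgU
  have h1 := card_le hQ hs hc Y (fun u hu => exists_glue_mem_E hG hs hc hH (hYO hu)) hTI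
  have h2 := hC F U (Q.comp U.subtype) (nondeg_comp hU) hmin d hd1 hfU
  refine ⟨conjs Q hc (prs Q hc Y), conjs_prs_subset hc Y, ?_, ?_⟩
  · have hpos : (0 : ℝ) < Nat.card (O (Q.comp U.subtype)) := by
      exact_mod_cast Nat.card_pos
    have h3 : ((Nat.card (E Q) * Nat.card Y : ℕ) : ℝ) ≤
        ((Nat.card (conjs Q hc (prs Q hc Y)) * Nat.card (O (Q.comp U.subtype)) : ℕ) : ℝ) := by
      exact_mod_cast h1
    push_cast at h3
    have h4 : ar d / (2 * d) * (Nat.card (O (Q.comp U.subtype)) : ℝ) ≤ (Nat.card Y : ℝ) := h2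
    have h5 : (0 : ℝ) ≤ Nat.card (E Q) := Nat.cast_nonneg _
    have h6 : ar d / (2 * d) * (Nat.card (E Q) : ℝ) * Nat.card (O (Q.comp U.subtype)) ≤
        Nat.card (conjs Q hc (prs Q hc Y)) * Nat.card (O (Q.comp U.subtype)) := by
      calc ar d / (2 * d) * (Nat.card (E Q) : ℝ) * Nat.card (O (Q.comp U.subtype))
          = (Nat.card (E Q) : ℝ) * (ar d / (2 * d) * (Nat.card (O (Q.comp U.subtype)) : ℝ)) := by ring
        _ ≤ (Nat.card (E Q) : ℝ) * Nat.card Y := mul_le_mul_of_nonneg_left h4 h5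
        _ ≤ _ := h3
    exact le_of_mul_le_mul_right h6 hpos
  · rintro _ ⟨g, hg, p, hp, rfl⟩
    refine ⟨U.map (g : V →ₗ[F] V), W.map (g : V →ₗ[F] V), ndOn_map hg hWnd, ?_, ?_,
      inv_conj (inv_glue_right hc p.1 p.2), ?_, ?_⟩
    · rw [finrank_map]; omega
    · rw [finrank_map]; omega
    · intro Z hZU hZ
      have h3 : Z.map (g⁻¹ : V ≃ₗ[F] V).toLinearMap ≤ U := by
        rintro _ ⟨z, hz, rfl⟩
        obtain ⟨u, hu, e⟩ := hZU hz
        rw [← e]
        show g⁻¹ (g u) ∈ U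
        rw [show g⁻¹ (g u) = u from g.symm_apply_apply u]
        exact hu
      rcases hirr p hp _ h3 (inv_conj' hZ) with h | h
      · left
        rw [← map_inv_map g Z, h, Submodule.map_bot]
      · right
        rw [← map_inv_map g Z, h]
    · intro Z hZ hfZ
      apply le_map_of_map_inv_le
      apply hsmall p hp _ (inv_conj' hZ)
      rw [finrank_map]
      exact hfZ

end

end Cfsg.Agent.H380.Bs
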