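import Cfsg.Agent.H380.Bs.Single
import Cfsg.Agent.H160.QSpin

/-!
S5733, orthogonal groups: many elements of `E Q` without invariant subspaces of dimension at most 7 (even-dimensional spaces),
respectively with at most one such subspace, of prescribed type (odd-dimensional spaces, odd characteristic).
-/

set_option autoImplicit false

namespace Cfsg.Agent.H380.Bs

open QuadraticMap Cfsg.Agent.LieClassical.OrthCore Cfsg.Agent.LieClassical.OrthTrans
  Cfsg.Agent.LieClassical.OrthFinite Cfsg.Agent.H885.Nondeg Cfsg.Agent.H885.NondegGeo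
open Cfsg.Agent.H885.Irr (NdOn)
open Cfsg.Agent.H847.Bs (Inv Frm glue frmQ nQ PlusT slV ar)
open Cfsg.Agent.H160.QSpin (spin cj cjEquiv IsIso)

/-- BS08 (c), as a hypothesis -/
def CountAdj : Prop :=
  ∀ (F V : Type) [Field F] [Finite F] [AddCommGroup V] [Module F V] [Module.Finite F V]
    (Q : QuadraticForm F V), Nondeg Q → PlusT Q → (2 : F) ≠ 0 → ∀ j : ℕ, 8 ≤ j →
      Module.finrank F V = 2 * j →
      Nat.card (O Q) ≤ 16 * j * Nat.card {x : V ≃ₗ[F] V // x ∈ (frmQ Q).Bp ∧ x ∈ E Q} ∧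
      Nat.card (O Q) ≤ 16 * j * Nat.card {x : V ≃ₗ[F] V // x ∈ (frmQ Q).Bp ∧ x ∈ slV F V ∧ x ∉ E Q}

section

variable {F V V' : Type*} [Field F] [AddCommGroup V] [Module F V] [AddCommGroup V'] [Module F V']

theorem cj_mem_E {Q : QuadraticForm F V} {Q' : QuadraticForm F V'} {e : V ≃ₗ[F] V'}
    (he : IsIso Q Q' e) {g : V ≃ₗ[F] V} (hg : g ∈ E Q) : cj e g ∈ E Q' := by
  have key : E Q ≤ (E Q').comap (cjEquiv e).toMonoidHom := by
    rw [E, Subgroup.closure_le]
    rintro _ ⟨u, w, hu, hw, rfl⟩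
    have hu' : Q' (e u) = 0 := by rw [he, hu]
    have hw' : polar Q' (e u) (e w) = 0 := by rw [he.polar, hw]
    have h1 : cj e (siegel Q u w hu hw) = siegel Q' (e u) (e w) hu' hw' := by
      ext v
      obtain ⟨v, rfl⟩ := e.surjective v
      rw [Cfsg.Agent.H160.QSpin.cj_apply', siegel_apply, siegel_apply, he.polar, he.polar, he]
      simp
    show cj e (siegel Q u w hu hw) ∈ E Q'
    rw [h1]
    exact siegel_mem_E _ _
  exact key hg

variable [Module.Finite F V]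

theorem mem_E_iff' [Finite F] [Finite V] {Q : QuadraticForm F V} (hG : Good Q) (h2 : (2 : F) ≠ 0)
    {g : V ≃ₗ[F] V} (hg : g ∈ O Q) : g ∈ E Q ↔ LinearEquiv.det g = 1 ∧ spin Q ⟨g, hg⟩ = 1 := by
  obtain ⟨Q', e, he⟩ := Cfsg.Agent.H160.QSpin.exists_iso_fin Q
  have hG' : Good Q' := by
    apply good_of_finite (he.nondeg hG.nondeg)
    rw [Module.finrank_fin_fun]
    exact hG.dim
  have h1 : g ∈ E Q ↔ cj e g ∈ E Q' := by
    refine ⟨cj_mem_E he, fun h => ?_⟩
    have h3 := cj_mem_E he.symm h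
    have h4 : cj e.symm (cj e g) = g := by
      ext v
      simp [Cfsg.Agent.H160.QSpin.cj_apply]
    rwa [h4] at h3
  rw [h1, Cfsg.Agent.FooteOrth.mem_E_iff hG' h2 (Cfsg.Agent.H160.QSpin.cj_mem_O he hg),
    Cfsg.Agent.H160.QSpin.det_cj, ← Cfsg.Agent.H160.QSpin.spin_eq_sg,
    Cfsg.Agent.H160.QSpin.spin_cj he hg]

theorem det_eq_or {Q : QuadraticForm F V} (hQ : Nondeg Q) {g : V ≃ₗ[F] V} (hg : g ∈ O Q) :
    LinearEquiv.det g = 1 ∨ LinearEquiv.det g = -1 := by
  have h1 := Cfsg.Agent.H160.QSpin.det_sq hQ hg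
  have h2 : ((LinearEquiv.det g : Fˣ) : F) * ((LinearEquiv.det g : Fˣ) : F) = 1 := by
    rw [← pow_two, ← Units.val_pow_eq_pow_val, h1, Units.val_one]
  rcases mul_self_eq_one_iff.1 h2 with h | h
  · left; apply Units.ext; rw [h, Units.val_one]
  · right; apply Units.ext; rw [h, Units.val_neg, Units.val_one]

theorem card_O_le [Finite F] {Q : QuadraticForm F V} (hG : Good Q) (h2 : (2 : F) ≠ 0) :
    Nat.card (O Q) ≤ 4 * Nat.card (E Q) := by
  classical
  have : Finite V := Module.finite_of_finite F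
  let f : O Q → ℤˣ × ℤˣ := fun g => (if LinearEquiv.det (g : V ≃ₗ[F] V) = 1 then 1 else -1, spin Q g)
  have hf : ∀ g g' : O Q, f g = f g' → ((g : V ≃ₗ[F] V))⁻¹ * (g' : V ≃ₗ[F] V) ∈ E Q := by
    intro g g' e
    have e1 : (if LinearEquiv.det (g : V ≃ₗ[F] V) = 1 then (1 : ℤˣ) else -1) =
      (if LinearEquiv.det (g' : V ≃ₗ[F] V) = 1 then (1 : ℤˣ) else -1) := congrArg Prod.fst e
    have e2 : spin Q g = spin Q g' := congrArg Prod.snd e
    have hd : LinearEquiv.det (g : V ≃ₗ[F] V) = LinearEquiv.det (g' : V ≃ₗ[F] V) := by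
      rcases det_eq_or hG.nondeg g.2 with h | h <;> rcases det_eq_or hG.nondeg g'.2 with h' | h'
      · rw [h, h']
      · rw [if_pos h] at e1
        by_cases h3 : LinearEquiv.det (g' : V ≃ₗ[F] V) = 1
        · rw [h, h3]
        · rw [if_neg h3] at e1
          exact absurd e1 (by decide)
      · rw [if_pos h'] at e1
        by_cases h3 : LinearEquiv.det (g : V ≃ₗ[F] V) = 1
        · rw [h', h3]
        · rw [if_neg h3] at e1
          exact absurd e1 (by decide)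
      · rw [h, h']
    have hm : ((g : V ≃ₗ[F] V))⁻¹ * (g' : V ≃ₗ[F] V) ∈ O Q := mul_mem (inv_mem g.2) g'.2
    rw [mem_E_iff' hG h2 hm]
    refine ⟨by rw [map_mul, map_inv, hd, inv_mul_cancel], ?_⟩
    have h3 : (⟨((g : V ≃ₗ[F] V))⁻¹ * (g' : V ≃ₗ[F] V), hm⟩ : O Q) = g⁻¹ * g' := rfl
    rw [h3, map_mul, map_inv, e2, inv_mul_cancel]
  have h4 : Nat.card (ℤˣ × ℤˣ) = 4 := by
    rw [Nat.card_eq_fintype_card]
    decide
  rw [← h4, ← Nat.card_prod]
  let r : ℤˣ × ℤˣ → O Q := fun s => if h : ∃ g, f g = s then h.choose else 1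
  have hr : ∀ g, f (r (f g)) = f g := by
    intro g
    have h : ∃ g', f g' = f g := ⟨g, rfl⟩
    simp only [r, dif_pos h]
    exact h.choose_spec
  apply Nat.card_le_card_of_injective (fun g : O Q => (f g, (⟨_, hf (r (f g)) g (hr g)⟩ : E Q)))
  intro g g' e
  have e1 : f g = f g' := congrArg Prod.fst e
  have e2 : ((r (f g) : O Q) : V ≃ₗ[F] V)⁻¹ * g = ((r (f g') : O Q) : V ≃ₗ[F] V)⁻¹ * g' :=
    congrArg (fun t : _ × E Q => (t.2 : V ≃ₗ[F] V)) e
  rw [e1] at e2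
  exact Subtype.ext (mul_left_cancel e2)

end

section

variable {F V : Type*} [Field F] [AddCommGroup V] [Module F V] {Q : QuadraticForm F V}
  {W U : Submodule F V}

theorem det_glue [Module.Finite F V] (hc : IsCompl W U) (w : W ≃ₗ[F] W) (u : U ≃ₗ[F] U) :
    LinearEquiv.det (glue hc w u) = LinearEquiv.det w * LinearEquiv.det u := by
  rw [← Cfsg.Agent.H160.QSpin.det_pr, ← Cfsg.Agent.H160.QSpin.det_cj (Submodule.prodEquivOfIsCompl W U hc)]
  rfl

theorem mem_slV {g : V ≃ₗ[F] V} : g ∈ slV F V ↔ LinearEquiv.det g = 1 := by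
  rw [← Units.val_inj, LinearEquiv.coe_det, Units.val_one]
  rfl

/-- a block of type plus has no invariant subspaces of small dimension -/
theorem bp_no_small [Module.Finite F V] {x : V ≃ₗ[F] V} (hx : x ∈ (frmQ Q).Bp) {j : ℕ}
    (hj : Module.finrank F V = 2 * j) {Z : Submodule F V} (hZ : Inv x Z) (hfZ : Module.finrank F Z < j) :
    Z = ⊥ := by
  obtain ⟨-, A, A', hc, -, -, hA, hA', hf, -⟩ := hx
  have h1 := Submodule.finrank_add_eq_of_isCompl hc
  have h2 : Inv x (Z ⊓ A) := fun v hv => ⟨hZ v hv.1, hA.inv v hv.2⟩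
  have h3 : Inv x ((Z ⊔ A) ⊓ A') := by
    intro v hv
    refine ⟨?_, hA'.inv v hv.2⟩
    obtain ⟨z, hz, a, ha, e⟩ := Submodule.mem_sup.1 hv.1
    rw [← e, map_add]
    exact Submodule.add_mem_sup (hZ z hz) (hA.inv a ha)
  have h4 : Z ⊓ A = ⊥ := by
    rcases hA.min _ inf_le_right h2 with h | h
    · exact h
    · exfalso
      have h5 : A ≤ Z := by rw [← h]; exact inf_le_left
      have := Submodule.finrank_mono h5
      omega
  have h5 : (Z ⊔ A) ⊓ A' = ⊥ := by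
    rcases hA'.min _ inf_le_right h3 with h | h
    · exact h
    · exfalso
      have h6 : A' ≤ Z ⊔ A := by rw [← h]; exact inf_le_left
      have h7 : Z ⊔ A = ⊤ := by
        rw [eq_top_iff, ← hc.sup_eq_top]
        exact sup_le le_sup_right h6
      have h8 := Submodule.finrank_sup_add_finrank_inf_eq Z A
      rw [h7, h4, finrank_top, finrank_bot] at h8
      omega
  have h6 : Z ≤ A := by
    have h7 : A ⊔ ((Z ⊔ A) ⊓ A') = Z ⊔ A := by
      rw [inf_comm, ← sup_inf_assoc_of_le A' (le_sup_right : A ≤ Z ⊔ A), hc.sup_eq_top, top_inf_eq]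
    rw [h5, sup_bot_eq] at h7
    rw [h7]
    exact le_sup_left
  rw [eq_bot_iff, ← h4]
  exact le_inf le_rfl h6

end

section

variable {F V : Type} [Field F] [AddCommGroup V] [Module F V] {Q : QuadraticForm F V}

/-- the elements of `E Q` without invariant subspaces of dimension `1, …, 7` -/
def noSmall (Q : QuadraticForm F V) : Set (V ≃ₗ[F] V) :=
  {x | x ∈ E Q ∧ ∀ Z : Submodule F V, Inv x Z → Module.finrank F Z ≤ 7 → Z = ⊥}

theorem nQ_two (h2 : (2 : F) = 0) : nQ Q = E Q := by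
  unfold nQ
  rw [if_pos h2]

theorem small_even_two {c : ℝ} {K₀ : ℕ} (hC : CountO c K₀) (hc0 : 0 ≤ c) [Finite F] [Module.Finite F V]
    (h2 : (2 : F) = 0) (hQ : Nondeg Q) {n K : ℕ} (hK : K₀ ≤ K) (h7 : 7 ≤ K)
    (hd : Module.finrank F V = 2 * n) (hn : K < n) :
    c / (K + 1) * (Nat.card (E Q) : ℝ) ≤ Nat.card (noSmall Q) := by
  have h1 := hC F V Q hQ n K hK hd hn
  have h3 : Nat.card {x : V ≃ₗ[F] V // x ∈ (frmQ Q).SS K (2 * n) ∧ x ∈ nQ Q} ≤ Nat.card (noSmall Q) := by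
    apply Nat.card_le_card_of_injective (fun x => (⟨x.1, by
      have h4 : x.1 ∈ E Q := (nQ_two h2).le x.2.2
      refine ⟨h4, fun Z hZ hfZ => ?_⟩
      by_contra hne
      have := x.2.1.2.1 Z hZ hne
      omega⟩ : noSmall Q))
    intro a b e
    exact Subtype.ext (congrArg (fun t : noSmall Q => (t : V ≃ₗ[F] V)) e)
  have h4 : (Nat.card (E Q) : ℝ) ≤ Nat.card (O Q) := by
    exact_mod_cast Nat.card_le_card_of_injective (Subgroup.inclusion (E_le_O (Q := Q)))
      (Subgroup.inclusion_injective _)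
  have h5 : (0 : ℝ) ≤ c / (K + 1) := by positivity
  calc c / (K + 1) * (Nat.card (E Q) : ℝ) ≤ c / (K + 1) * (Nat.card (O Q) : ℝ) :=
        mul_le_mul_of_nonneg_left h4 h5
    _ ≤ _ := h1
    _ ≤ _ := by exact_mod_cast h3

theorem small_even_odd {c : ℝ} {K₀ : ℕ} (hC : CountO c K₀) (hA : CountAdj) (hc0 : 0 ≤ c) [Finite F]
    [Module.Finite F V] (h2 : (2 : F) ≠ 0) (hQ : Nondeg Q) {n K : ℕ} (hK : K₀ ≤ K) (h16 : 16 ≤ K)
    (hd : Module.finrank F V = 2 * n) (hn : K + 8 < n) :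
    c / (128 * (K + 1)) * (Nat.card (E Q) : ℝ) ≤ Nat.card (noSmall Q) := by
  classical
  have : Finite V := Module.finite_of_finite F
  have hG := good_of_finite hQ (by omega : 5 ≤ Module.finrank F V)
  obtain ⟨W, hW, hfW, hplus⟩ := exists_plus hQ 8 (by omega)
  have hs : Split Q W (perp Q W) := split_perp hW
  set U := perp Q W with hUdef
  have hU := hs.ndOn_right hQ
  have hc := Split.isCompl hs hQ
  have hfU := hs.finrank hQ
  have hGW : Good (Q.comp W.subtype) := good_of_finite (nondeg_comp hW) (by omega)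
  have hH := hyp_in hW (by omega)
  let Y : Set (U ≃ₗ[F] U) :=
    {u | u ∈ (frmQ (Q.comp U.subtype)).SS K (2 * (n - 8)) ∧ u ∈ nQ (Q.comp U.subtype)}
  have hYO : ∀ u ∈ Y, u ∈ O (Q.comp U.subtype) := fun u hu => by
    rw [← iso_frmQ]; exact hu.1.1
  have hYdet : ∀ u ∈ Y, LinearEquiv.det u = 1 := fun u hu => by
    have h4 := hu.2
    rw [nQ, if_neg h2] at h4
    exact mem_slV.1 h4.2
  let P : Set ((W ≃ₗ[F] W) × (U ≃ₗ[F] U)) :=
    {p | p.1 ∈ (frmQ (Q.comp W.subtype)).Bp ∧ p.2 ∈ Y ∧ glue hc p.1 p.2 ∈ E Q}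
  have hadj := hA F W (Q.comp W.subtype) (nondeg_comp hW) hplus h2 8 le_rfl hfW
  -- many `w` for each `u`
  have hfib : ∀ u : Y, Nat.card (O (Q.comp W.subtype)) ≤
      128 * Nat.card {w : W ≃ₗ[F] W // (w, (u : U ≃ₗ[F] U)) ∈ P} := by
    intro u
    obtain ⟨w₀, hw₀, hw₀E⟩ := exists_glue_mem_E hG hs hc hH (hYO u u.2)
    have hdet : LinearEquiv.det w₀ = 1 := by
      have h5 := ((mem_E_iff' hG h2 (E_le_O hw₀E)).1 hw₀E).1
      rw [det_glue, hYdet u u.2, mul_one] at h5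
      exact h5
    have hsub : ∀ {A : Set (W ≃ₗ[F] W)}, (∀ w ∈ A, w ∈ (frmQ (Q.comp W.subtype)).Bp ∧
        w * w₀⁻¹ ∈ E (Q.comp W.subtype)) →
        Nat.card A ≤ Nat.card {w : W ≃ₗ[F] W // (w, (u : U ≃ₗ[F] U)) ∈ P} := by
      intro A hA'
      apply Nat.card_le_card_of_injective (fun w : A =>
        (⟨(w : W ≃ₗ[F] W), (hA' w w.2).1, u.2, by
          have h6 : glue hc (w : W ≃ₗ[F] W) (u : U ≃ₗ[F] U) =
              glueL hc ((w : W ≃ₗ[F] W) * w₀⁻¹) * glue hc w₀ (u : U ≃ₗ[F] U) := by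
            rw [glueL_apply, ← glue_mul, one_mul, inv_mul_cancel_right]
          show glue hc (w : W ≃ₗ[F] W) (u : U ≃ₗ[F] U) ∈ E Q
          rw [h6]
          exact mul_mem (glueL_mem_E hs hc (hA' w w.2).2) hw₀E⟩ :
          {w : W ≃ₗ[F] W // (w, (u : U ≃ₗ[F] U)) ∈ P}))
      intro a b e
      have h7 := congrArg (fun t : {w : W ≃ₗ[F] W // (w, (u : U ≃ₗ[F] U)) ∈ P} => (t : W ≃ₗ[F] W)) e
      exact Subtype.ext h7
    by_cases hcase : w₀ ∈ E (Q.comp W.subtype)
    · have h8 := hsub (A := {w | w ∈ (frmQ (Q.comp W.subtype)).Bp ∧ w ∈ E (Q.comp W.subtype)})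
        (fun w hw => ⟨hw.1, mul_mem hw.2 (inv_mem hcase)⟩)
      have h9 : Nat.card {w | w ∈ (frmQ (Q.comp W.subtype)).Bp ∧ w ∈ E (Q.comp W.subtype)} =
        Nat.card {w : W ≃ₗ[F] W // w ∈ (frmQ (Q.comp W.subtype)).Bp ∧ w ∈ E (Q.comp W.subtype)} := rfl
      have h10 := hadj.1
      omega
    · have hspin : ∀ w ∈ O (Q.comp W.subtype), LinearEquiv.det w = 1 → w ∉ E (Q.comp W.subtype) →
          ∀ hw : w ∈ O (Q.comp W.subtype), spin (Q.comp W.subtype) ⟨w, hw⟩ = -1 := by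
        intro w _ hdw hnE hw
        rcases Int.units_eq_one_or (spin (Q.comp W.subtype) ⟨w, hw⟩) with h | h
        · exact absurd ((mem_E_iff' hGW h2 hw).2 ⟨hdw, h⟩) hnE
        · exact h
      have h8 := hsub (A := {w | w ∈ (frmQ (Q.comp W.subtype)).Bp ∧ w ∈ slV F W ∧
          w ∉ E (Q.comp W.subtype)}) (fun w hw => by
        refine ⟨hw.1, ?_⟩
        have hwO : w ∈ O (Q.comp W.subtype) := by rw [← iso_frmQ]; exact hw.1.1
        have hm : w * w₀⁻¹ ∈ O (Q.comp W.subtype) := mul_mem hwO (inv_mem hw₀)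
        rw [mem_E_iff' hGW h2 hm]
        refine ⟨by rw [map_mul, map_inv, hdet, mem_slV.1 hw.2.1, inv_one, mul_one], ?_⟩
        have h3 : (⟨w * w₀⁻¹, hm⟩ : O (Q.comp W.subtype)) = ⟨w, hwO⟩ * ⟨w₀, hw₀⟩⁻¹ := rfl
        rw [h3, map_mul, map_inv, hspin w hwO (mem_slV.1 hw.2.1) hw.2.2, hspin w₀ hw₀ hdet hcase]
        decide)
      have h9 : Nat.card {w | w ∈ (frmQ (Q.comp W.subtype)).Bp ∧ w ∈ slV F W ∧
          w ∉ E (Q.comp W.subtype)} =
        Nat.card {w : W ≃ₗ[F] W // w ∈ (frmQ (Q.comp W.subtype)).Bp ∧ w ∈ slV F W ∧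
          w ∉ E (Q.comp W.subtype)} := rfl
      have h10 := hadj.2
      omega
  have hP : Nat.card Y * Nat.card (O (Q.comp W.subtype)) ≤ 128 * Nat.card P := by
    let _ := Fintype.ofFinite Y
    let e : P ≃ (Σ u : Y, {w : W ≃ₗ[F] W // (w, (u : U ≃ₗ[F] U)) ∈ P}) :=
      { toFun := fun p => ⟨⟨p.1.2, p.2.2.1⟩, ⟨p.1.1, p.2⟩⟩
        invFun := fun q => ⟨(q.2.1, (q.1 : U ≃ₗ[F] U)), q.2.2⟩
        left_inv := fun p => rfl
        right_inv := fun q => rfl }
    rw [Nat.card_congr e, Nat.card_sigma, Finset.mul_sum]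
    calc Nat.card Y * Nat.card (O (Q.comp W.subtype))
        = ∑ _u : Y, Nat.card (O (Q.comp W.subtype)) := by
          rw [Finset.sum_const, Finset.card_univ, smul_eq_mul, Nat.card_eq_fintype_card]
      _ ≤ _ := Finset.sum_le_sum fun u _ => hfib u
  have hTI : ∀ g ∈ O Q, ∀ p ∈ P, ∀ p' ∈ P,
      g * glue hc p.1 p.2 * g⁻¹ = glue hc p'.1 p'.2 → Inv g W := by
    intro g hg p hp p' hp' e
    have h1 := inv_conj (g := g) (inv_glue_left hc p.1 p.2)
    rw [e] at h1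
    have h2 := le_left_of_small hc hp'.2.1.1.2.1 h1 (by rw [finrank_map]; omega)
    intro v hv
    exact h2 ⟨v, hv, rfl⟩
  have h1 := card_conjs hQ hs hc P hTI
  have h3 := hC F U (Q.comp U.subtype) (nondeg_comp hU) (n - 8) K hK (by omega) (by omega)
  have hsub : Nat.card (conjs Q hc P) ≤ Nat.card (noSmall Q) := by
    apply Nat.card_mono (Set.toFinite _)
    rintro _ ⟨g, hg, p, hp, rfl⟩
    refine ⟨conj_mem_E hg hp.2.2, fun Z hZ hfZ => ?_⟩
    have h4 := le_left_of_small hc hp.2.1.1.2.1 (inv_conj' hZ) (by rw [finrank_map]; omega)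
    set Z' := Z.map (g⁻¹ : V ≃ₗ[F] V).toLinearMap with hZ'
    have h5 : Inv p.1 (Z'.comap W.subtype) := by
      intro v hv
      show ((p.1 v : W) : V) ∈ Z'
      rw [← glue_left hc p.1 p.2]
      exact inv_conj' hZ _ hv
    have h6 : (Z'.comap W.subtype).map W.subtype = Z' := by
      rw [Submodule.map_comap_subtype, inf_eq_right.2 h4]
    have h7 : Module.finrank F (Z'.comap W.subtype) = Module.finrank F Z := by
      rw [finrank_comap_of_le h4, hZ', finrank_map]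
    have h8 := bp_no_small hp.1 hfW h5 (by omega)
    rw [← map_inv_map g Z, ← hZ', ← h6, h8, Submodule.map_bot, Submodule.map_bot]
  have hOW : 0 < Nat.card (O (Q.comp W.subtype)) := Nat.card_pos
  have hOU : (0 : ℝ) < Nat.card (O (Q.comp U.subtype)) := by
    exact_mod_cast Nat.card_pos
  have h4 : Nat.card (O Q) * Nat.card Y ≤ 128 * (Nat.card (conjs Q hc P) * Nat.card (O (Q.comp U.subtype))) := by
    apply Nat.le_of_mul_le_mul_left _ hOW
    calc Nat.card (O (Q.comp W.subtype)) * (Nat.card (O Q) * Nat.card Y)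
        = Nat.card (O Q) * (Nat.card Y * Nat.card (O (Q.comp W.subtype))) := by ring
      _ ≤ Nat.card (O Q) * (128 * Nat.card P) := Nat.mul_le_mul_left _ hP
      _ = 128 * (Nat.card (O Q) * Nat.card P) := by ring
      _ ≤ 128 * (Nat.card (conjs Q hc P) *
          (Nat.card (O (Q.comp W.subtype)) * Nat.card (O (Q.comp U.subtype)))) :=
          Nat.mul_le_mul_left _ h1
      _ = _ := by ring
  have h5 : (Nat.card (O Q) : ℝ) * Nat.card Y ≤
      128 * (Nat.card (conjs Q hc P) * Nat.card (O (Q.comp U.subtype))) := by exact_mod_cast h4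
  have h6 : c / (K + 1) * (Nat.card (O (Q.comp U.subtype)) : ℝ) ≤ Nat.card Y := h3
  have h7 : c / (128 * (K + 1)) * (Nat.card (O Q) : ℝ) * Nat.card (O (Q.comp U.subtype)) ≤
      Nat.card (conjs Q hc P) * Nat.card (O (Q.comp U.subtype)) := by
    have h8 : (0 : ℝ) ≤ Nat.card (O Q) := Nat.cast_nonneg _
    have h9 := mul_le_mul_of_nonneg_left h6 h8
    have h10 : c / (128 * (K + 1)) * (Nat.card (O Q) : ℝ) * Nat.card (O (Q.comp U.subtype)) =
        ((Nat.card (O Q) : ℝ) * (c / (K + 1) * (Nat.card (O (Q.comp U.subtype)) : ℝ))) / 128 := by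
      field_simp
    rw [h10]
    linarith
  have h8 := le_of_mul_le_mul_right h7 hOU
  have h9 : (Nat.card (E Q) : ℝ) ≤ Nat.card (O Q) := by
    exact_mod_cast Nat.card_le_card_of_injective (Subgroup.inclusion (E_le_O (Q := Q)))
      (Subgroup.inclusion_injective _)
  have h10 : (0 : ℝ) ≤ c / (128 * (K + 1)) := by positivity
  calc c / (128 * (K + 1)) * (Nat.card (E Q) : ℝ) ≤ c / (128 * (K + 1)) * (Nat.card (O Q) : ℝ) :=
        mul_le_mul_of_nonneg_left h9 h10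
    _ ≤ _ := h8
    _ ≤ _ := by exact_mod_cast hsub

end

end Cfsg.Agent.H380.Bs
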