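import Cfsg.Agent.H380.Bs.Small
import Cfsg.Agent.S0760

/-!
S5733, orthogonal groups: summation over the dimensions of the blocks.
-/

set_option autoImplicit false

namespace Cfsg.Agent.H380.Bs

open QuadraticMap Cfsg.Agent.LieClassical.OrthCore Cfsg.Agent.LieClassical.OrthTrans
  Cfsg.Agent.LieClassical.OrthFinite Cfsg.Agent.H885.Nondeg Cfsg.Agent.H885.NondegGeo
open Cfsg.Agent.H885.Irr (NdOn)
open Cfsg.Agent.H847.Bs (Inv Frm glue frmQ nQ PlusT slV ar)

theorem sum_le {Γ : Type*} [Finite Γ] (k : ℕ) (S : ℕ → Set Γ) (T : Set Γ) (a : ℝ)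
    (hdis : ∀ i < k, ∀ j < k, i ≠ j → Disjoint (S i) (S j)) (hsub : ∀ i < k, S i ⊆ T)
    (hcard : ∀ i < k, a ≤ Nat.card (S i)) : (k : ℝ) * a ≤ Nat.card T := by
  classical
  let s : ℕ → Finset Γ := fun i => (Set.toFinite (S i)).toFinset
  have hs : ∀ i, (s i).card = Nat.card (S i) := fun i => by
    rw [Nat.card_coe_set_eq, Set.ncard_eq_toFinset_card _ (Set.toFinite (S i))]
  have h1 : ((Finset.range k).biUnion s).card = ∑ i ∈ Finset.range k, (s i).card := by
    apply Finset.card_biUnion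
    intro i hi j hj hij
    show Disjoint (s i) (s j)
    rw [Finset.disjoint_left]
    intro x hx hx'
    have h2 := hdis i (Finset.mem_range.1 hi) j (Finset.mem_range.1 hj) hij
    rw [Set.disjoint_left] at h2
    exact h2 ((Set.Finite.mem_toFinset _).1 hx) ((Set.Finite.mem_toFinset _).1 hx')
  have h2 : (Finset.range k).biUnion s ⊆ (Set.toFinite T).toFinset := by
    intro x hx
    obtain ⟨i, hi, hx⟩ := Finset.mem_biUnion.1 hx
    exact (Set.Finite.mem_toFinset _).2 (hsub i (Finset.mem_range.1 hi) ((Set.Finite.mem_toFinset _).1 hx))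
  have h3 := Finset.card_le_card h2
  have h4 : (Set.toFinite T).toFinset.card = Nat.card T := by
    rw [Nat.card_coe_set_eq, Set.ncard_eq_toFinset_card _ (Set.toFinite T)]
  rw [h1, h4] at h3
  have h5 : ∑ _i ∈ Finset.range k, a ≤ ∑ i ∈ Finset.range k, ((s i).card : ℝ) := by
    apply Finset.sum_le_sum
    intro i hi
    rw [hs]
    exact hcard i (Finset.mem_range.1 hi)
  rw [Finset.sum_const, Finset.card_range, nsmul_eq_mul] at h5
  refine h5.trans ?_
  exact_mod_cast h3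

theorem ar_ge {j : ℕ} (hj : 16 ≤ j) : 1 / 2 ≤ ar j := by
  have h1 : (4 / 5 : ℝ) ^ j ≤ (4 / 5 : ℝ) ^ 16 :=
    pow_le_pow_of_le_one (by norm_num) (by norm_num) hj
  have h2 : (4 / 5 : ℝ) ^ 16 ≤ 1 / 32 := by norm_num
  rw [ar]
  linarith

section

variable {F V : Type} [Field F] [AddCommGroup V] [Module F V] {Q : QuadraticForm F V}

/-- the elements of `E Q` fixing no image of `Y₀` -/
def good (Q : QuadraticForm F V) (Y₀ : Submodule F V) : Set (V ≃ₗ[F] V) :=
  {x | x ∈ E Q ∧ ∀ g ∈ O Q, ¬ Inv x (Y₀.map (g : V →ₗ[F] V))}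

/-- `Y₀` is not contained in a nondegenerate subspace of dimension less than `L` -/
structure Big (Q : QuadraticForm F V) (Y₀ : Submodule F V) (L : ℕ) : Prop where
  le : Module.finrank F Y₀ ≤ L
  big : ∀ W : Submodule F V, NdOn Q W → ∀ g ∈ O Q, Y₀.map (g : V →ₗ[F] V) ≤ W →
    L ≤ Module.finrank F W

theorem med_sum {c : ℝ} {K₀ : ℕ} (hC : CountO c K₀) (hc0 : 0 ≤ c) [Finite F] [Module.Finite F V]
    (hQ : Nondeg Q) {Y₀ : Submodule F V} {L : ℕ} (hB : Big Q Y₀ L) (h8 : 8 ≤ L)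
    (hL : 8 * L < Module.finrank F V) (hN : 8 * K₀ ≤ Module.finrank F V) :
    c / (6 * (K₀ + 1)) * (Nat.card (E Q) : ℝ) ≤ Nat.card (good Q Y₀) := by
  set N := Module.finrank F V with hNdef
  set K := max L K₀ with hKdef
  have hKL : L ≤ K := le_max_left _ _
  have hKK : K₀ ≤ K := le_max_right _ _
  have hK8 : 8 * K ≤ N := by
    rw [hKdef]
    rcases le_total L K₀ with h | h
    · rw [max_eq_right h]; exact hN
    · rw [max_eq_left h]; omega
  obtain ⟨e, he1, he2, he3⟩ : ∃ e, 4 ≤ e ∧ e ≤ 5 ∧ e % 2 = N % 2 := by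
    rcases Nat.mod_two_eq_zero_or_one N with h | h
    · exact ⟨4, by omega, by omega, by omega⟩
    · exact ⟨5, by omega, by omega, by omega⟩
  have key : ∀ i : ℕ, i < (L - 4) / 2 → ∃ S : Set (V ≃ₗ[F] V), S ⊆ E Q ∧
      c / (K + 1) * (Nat.card (E Q) : ℝ) ≤ Nat.card S ∧
      ∀ x ∈ S, ∃ W : Submodule F V, NdOn Q W ∧ Module.finrank F W = e + 2 * i ∧ Inv x W ∧
        ∀ Y : Submodule F V, Inv x Y → Module.finrank F Y ≤ K → Y ≤ W := by
    intro i hi
    exact med_one hC hQ (K := K) (t := e + 2 * i) (m := (N - (e + 2 * i)) / 2) hKK (by omega)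
      (by omega) (by omega) (by omega)
  choose! S hSE hScard hSW using key
  have h1 := sum_le ((L - 4) / 2) S (good Q Y₀) (c / (K + 1) * (Nat.card (E Q) : ℝ)) ?_ ?_ hScard
  · refine le_trans ?_ h1
    have hE : (0 : ℝ) ≤ Nat.card (E Q) := Nat.cast_nonneg _
    have hnum : c / (6 * (K₀ + 1)) ≤ (((L - 4) / 2 : ℕ) : ℝ) * (c / (K + 1)) := by
      have hK1 : (0 : ℝ) < (K : ℝ) + 1 := by positivity
      have hK2 : (0 : ℝ) < 6 * ((K₀ : ℝ) + 1) := by positivity
      rw [div_le_iff₀ hK2, mul_div_assoc', div_mul_eq_mul_div, le_div_iff₀ hK1]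
      have h2 : ((K : ℝ) + 1) ≤ (((L - 4) / 2 : ℕ) : ℝ) * (6 * ((K₀ : ℝ) + 1)) := by
        have h3 : K + 1 ≤ (L - 4) / 2 * (6 * (K₀ + 1)) := by
          have h4 : 2 ≤ (L - 4) / 2 := by omega
          have h5 : L + 1 ≤ 6 * ((L - 4) / 2) := by omega
          rcases le_total L K₀ with h | h
          · have h6 : K = K₀ := by rw [hKdef, max_eq_right h]
            rw [h6]
            nlinarith
          · have h6 : K = L := by rw [hKdef, max_eq_left h]
            rw [h6]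
            nlinarith
        exact_mod_cast h3
      calc c * ((K : ℝ) + 1) ≤ c * ((((L - 4) / 2 : ℕ) : ℝ) * (6 * ((K₀ : ℝ) + 1))) :=
            mul_le_mul_of_nonneg_left h2 hc0
        _ = _ := by ring
    calc c / (6 * (K₀ + 1)) * (Nat.card (E Q) : ℝ)
        ≤ ((((L - 4) / 2 : ℕ) : ℝ) * (c / (K + 1))) * (Nat.card (E Q) : ℝ) :=
          mul_le_mul_of_nonneg_right hnum hE
      _ = _ := by ring
  · intro i hi j hj hij
    rw [Set.disjoint_left]
    intro x hx hx'
    obtain ⟨W, -, hfW, hWinv, hW⟩ := hSW i hi x hx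
    obtain ⟨W', -, hfW', hWinv', hW'⟩ := hSW j hj x hx'
    have h2 := hW' W hWinv (by omega)
    have h3 := hW W' hWinv' (by omega)
    have h4 : W = W' := le_antisymm h2 h3
    rw [h4, hfW'] at hfW
    omega
  · intro i hi x hx
    refine ⟨hSE i hi hx, fun g hg hinv => ?_⟩
    obtain ⟨W, hWnd, hfW, hWinv, hW⟩ := hSW i hi x hx
    have h2 := hW _ hinv (by
      rw [finrank_map]
      exact hB.le.trans hKL)
    have h3 := hB.big W hWnd g hg h2
    omega

theorem large_sum (hC : CountMinus) [Finite F] [Module.Finite F V] (hQ : Nondeg Q)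
    {Y₀ : Submodule F V} {L : ℕ} (hB : Big Q Y₀ L) (hY : 2 * Module.finrank F Y₀ ≤ Module.finrank F V)
    (hL : Module.finrank F V ≤ 8 * L) (hN : 128 ≤ Module.finrank F V) :
    1 / 64 * (Nat.card (E Q) : ℝ) ≤ Nat.card (good Q Y₀) := by
  set N := Module.finrank F V with hNdef
  have key : ∀ i : ℕ, i < N / 16 - 3 → ∃ S : Set (V ≃ₗ[F] V), S ⊆ E Q ∧
      ar ((N - 3) / 2 - i) / (2 * ((N - 3) / 2 - i : ℕ)) * (Nat.card (E Q) : ℝ) ≤ Nat.card S ∧
      ∀ x ∈ S, ∃ D W : Submodule F V, NdOn Q W ∧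
        Module.finrank F W + 2 * ((N - 3) / 2 - i) = Module.finrank F V ∧
        Module.finrank F D = 2 * ((N - 3) / 2 - i) ∧ Inv x D ∧
        (∀ Y : Submodule F V, Y ≤ D → Inv x Y → Y = ⊥ ∨ Y = D) ∧
        ∀ Y : Submodule F V, Inv x Y → Module.finrank F Y < 2 * ((N - 3) / 2 - i) → Y ≤ W := by
    intro i hi
    exact large_one hC hQ (d := (N - 3) / 2 - i) (by omega) (by omega) (by omega)
  choose! S hSE hScard hSW using key
  have hE : (0 : ℝ) ≤ Nat.card (E Q) := Nat.cast_nonneg _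
  have hN0 : (0 : ℝ) < N := by
    have : 0 < N := by omega
    exact_mod_cast this
  have h1 := sum_le (N / 16 - 3) S (good Q Y₀) (1 / (2 * (N : ℝ)) * (Nat.card (E Q) : ℝ)) ?_ ?_ ?_
  · refine le_trans ?_ h1
    have hnum : (1 / 64 : ℝ) ≤ ((N / 16 - 3 : ℕ) : ℝ) * (1 / (2 * (N : ℝ))) := by
      rw [mul_one_div, le_div_iff₀ (by positivity)]
      have h2 : N ≤ 32 * (N / 16 - 3) := by omega
      have h3 : (N : ℝ) ≤ 32 * ((N / 16 - 3 : ℕ) : ℝ) := by exact_mod_cast h2
      linarith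
    calc (1 / 64 : ℝ) * (Nat.card (E Q) : ℝ)
        ≤ (((N / 16 - 3 : ℕ) : ℝ) * (1 / (2 * (N : ℝ)))) * (Nat.card (E Q) : ℝ) :=
          mul_le_mul_of_nonneg_right hnum hE
      _ = _ := by ring
  · intro i hi j hj hij
    rw [Set.disjoint_left]
    intro x hx hx'
    obtain ⟨D, W, -, -, hfD, hDinv, hDirr, -⟩ := hSW i hi x hx
    obtain ⟨D', W', -, -, hfD', hDinv', hDirr', -⟩ := hSW j hj x hx'
    have h2 : Inv x (D ⊓ D') := fun v hv => ⟨hDinv v hv.1, hDinv' v hv.2⟩
    have h3 := Submodule.finrank_sup_add_finrank_inf_eq D D'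
    have h4 := Submodule.finrank_le (D ⊔ D')
    have h5 : D ⊓ D' ≠ ⊥ := by
      intro h
      rw [h, finrank_bot] at h3
      omega
    have h6 := (hDirr _ inf_le_left h2).resolve_left h5
    have h7 := (hDirr' _ inf_le_right h2).resolve_left h5
    have h8 : D = D' := by rw [← h6, h7]
    rw [h8, hfD'] at hfD
    omega
  · intro i hi x hx
    refine ⟨hSE i hi hx, fun g hg hinv => ?_⟩
    obtain ⟨D, W, hWnd, hfW, hfD, hDinv, hDirr, hW⟩ := hSW i hi x hx
    have h2 := hW _ hinv (by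
      rw [finrank_map]
      omega)
    have h3 := hB.big W hWnd g hg h2
    omega
  · intro i hi
    refine le_trans ?_ (hScard i hi)
    apply mul_le_mul_of_nonneg_right _ hE
    have h2 := ar_ge (j := (N - 3) / 2 - i) (by omega)
    have h3 : (0 : ℝ) < (((N - 3) / 2 - i : ℕ) : ℝ) := by
      have : 0 < (N - 3) / 2 - i := by omega
      exact_mod_cast this
    rw [div_le_div_iff₀ (by positivity) (by positivity)]
    have h4 : 2 * ((N - 3) / 2 - i) ≤ N := by omega
    have h5 : 2 * (((N - 3) / 2 - i : ℕ) : ℝ) ≤ N := by exact_mod_cast h4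
    nlinarith

theorem big_of_ti [Finite F] [Module.Finite F V] {Y₀ : Submodule F V} (hY : ∀ y ∈ Y₀, Q y = 0) :
    Big Q Y₀ (2 * Module.finrank F Y₀) := by
  refine ⟨by omega, fun W hW g hg hle => ?_⟩
  have h1 : ∀ w ∈ (Y₀.map (g : V →ₗ[F] V)).comap W.subtype, (Q.comp W.subtype) w = 0 := by
    rintro w ⟨y, hy, e⟩
    show Q (w : V) = 0
    have e' : g y = (w : V) := e
    rw [← e', mem_O.1 hg, hY y hy]
  have hnd := nondeg_comp hW
  have h2 := Cfsg.Agent.S0760.two_mul_finrank_le (Q.comp W.subtype)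
    ⟨fun x hx => hnd x hx, fun y hy => hnd y fun x => by rw [polar_comm]; exact hy x⟩ _ h1
  rwa [finrank_comap_of_le hle, finrank_map] at h2

theorem big_of_nd [Module.Finite F V] {Y₀ : Submodule F V} :
    Big Q Y₀ (Module.finrank F Y₀) := by
  refine ⟨le_rfl, fun W hW g hg hle => ?_⟩
  have := Submodule.finrank_mono hle
  rwa [finrank_map] at this

end

end Cfsg.Agent.H380.Bs
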